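import Cfsg.Agent.Lib.SpWeilRankOne.Proj
import Mathlib.LinearAlgebra.Matrix.Transvection
import Mathlib.LinearAlgebra.Matrix.GeneralLinearGroup.Defs

set_option autoImplicit false
set_option linter.unusedSectionVars false
set_option linter.style.haveILetI false
set_option linter.unusedSimpArgs false
set_option linter.unnecessarySeqFocus false

/-! The operators on the eigenspace of a long root group of a rank-one representation. -/

namespace CfsgLib.SpWeilRankOne

open Matrix CfsgLib.SpWeilDeg CfsgLib.KnownSimple.ModulePerm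

variable {F : Type*} [Field F] [Fintype F] [DecidableEq F]
variable {U : Type*} [AddCommGroup U] [Module ℂ U]

section General

variable {n : ℕ} (ρ : Representation ℂ (Sp n F) U)

/-- All occurring forms have rank at most one. -/
def RankLE1 : Prop := ∀ B : Mat n F, piB ρ B ≠ 0 → ∀ i j k l, B i j * B k l = B i l * B k j

theorem mid_eq_zero {g : Module.End ℂ U} {M : Mat n F} (hg : Commute (ρ (siegel M)) g) {B B' : Mat n F}
    (hne : phi B M ≠ phi B' M) : piB ρ B * g * piB ρ B' = 0 := by
  have h : phi B M • (piB ρ B * g * piB ρ B') = phi B' M • (piB ρ B * g * piB ρ B') := by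
    calc phi B M • (piB ρ B * g * piB ρ B') = piB ρ B * ρ (siegel M) * g * piB ρ B' := by
          rw [piB_mul_siegel, smul_mul_assoc, smul_mul_assoc]
      _ = piB ρ B * g * (ρ (siegel M) * piB ρ B') := by
          rw [mul_assoc (piB ρ B) (ρ (siegel M)) g, hg.eq]; simp only [mul_assoc]
      _ = _ := by rw [siegel_mul_piB, mul_smul_comm]
  rw [← sub_eq_zero] at h
  have h' : (phi B M - phi B' M) • (piB ρ B * g * piB ρ B') = 0 :=
    (by module : (phi B M - phi B' M) • (piB ρ B * g * piB ρ B') =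
      phi B M • (piB ρ B * g * piB ρ B') - phi B' M • (piB ρ B * g * piB ρ B')).trans h
  exact (smul_eq_zero.mp h').resolve_left (sub_ne_zero.mpr hne)

theorem map_mul_inv (g : Sp n F) : ρ g * ρ g⁻¹ = 1 := by rw [← map_mul, mul_inv_cancel, map_one]

theorem map_inv_mul (g : Sp n F) : ρ g⁻¹ * ρ g = 1 := by rw [← map_mul, inv_mul_cancel, map_one]

theorem commute_conj {x y w : Sp n F} (hxy : w * x = y * w) {f : Module.End ℂ U} (hy : Commute (ρ y) f) :
    Commute (ρ x) (ρ w⁻¹ * f * ρ w) := by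
  have h1 : ρ x * ρ w⁻¹ = ρ w⁻¹ * ρ y := by
    rw [← map_mul, ← map_mul]
    congr 1
    calc x * w⁻¹ = w⁻¹ * (w * x) * w⁻¹ := by group
      _ = w⁻¹ * y := by rw [hxy]; group
  have h2 : ρ y * ρ w = ρ w * ρ x := by rw [← map_mul, ← map_mul, hxy]
  show _ = _
  calc ρ x * (ρ w⁻¹ * f * ρ w) = ρ w⁻¹ * (ρ y * f) * ρ w := by rw [← mul_assoc, ← mul_assoc, h1]; simp only [mul_assoc]
    _ = ρ w⁻¹ * f * (ρ y * ρ w) := by rw [hy.eq]; simp only [mul_assoc]
    _ = _ := by rw [h2]; simp only [mul_assoc]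

theorem commute_map_inv {g : Sp n F} {f : Module.End ℂ U} (h : Commute (ρ g) f) : Commute (ρ g⁻¹) f := by
  show _ = _
  calc ρ g⁻¹ * f = ρ g⁻¹ * (f * ρ g) * ρ g⁻¹ := by rw [mul_assoc, mul_assoc, map_mul_inv, mul_one]
    _ = f * ρ g⁻¹ := by rw [← h.eq, ← mul_assoc, map_inv_mul, one_mul]

theorem commute_map_mul {g g' : Sp n F} {f : Module.End ℂ U} (h : Commute (ρ g) f) (h' : Commute (ρ g') f) :
    Commute (ρ (g * g')) f := by
  rw [map_mul]; exact h.mul_left h'

theorem commute_piB_levi {A : GL (Fin n) F} {B : Mat n F} (h : act A B = B) :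
    Commute (piB ρ B) (ρ (levi A)) := by
  have := levi_mul_piB ρ A B
  rw [h] at this
  exact this.symm

theorem conj_levi_commute_siegel {f : Module.End ℂ U} (hf : ∀ M, Commute (ρ (siegel M)) f) (A : GL (Fin n) F)
    (M : Mat n F) : Commute (ρ (siegel M)) (ρ (levi A) * f * ρ (levi A)⁻¹) := by
  have := commute_conj ρ (x := siegel M)
    (y := siegel (((A⁻¹ : GL (Fin n) F) : Mat n F) * M * ((A⁻¹ : GL (Fin n) F) : Mat n F)ᵀ))
    (w := (levi A)⁻¹) (by rw [← levi_inv, levi_mul_siegel]) (hf _)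
  rwa [inv_inv] at this

theorem commute_siegel_of_corner {f : Module.End ℂ U} {B : Mat n F} (hl : piB ρ B * f = f) (hr : f * piB ρ B = f)
    (M : Mat n F) : Commute (ρ (siegel M)) f := by
  show _ = _
  conv_lhs => rw [← hl]
  conv_rhs => rw [← hr]
  rw [← mul_assoc, siegel_mul_piB, mul_assoc, piB_mul_siegel, smul_mul_assoc, hl, mul_smul_comm, hr]

end General

variable {m : ℕ} (ρ : Representation ℂ (Sp (m + 1) F) U)

theorem phi_row (B : Mat (m + 1) F) (c : Fin (m + 1) → F) :
    phi B (vecMulVec (e0 m F) c) = chi F (B 0 ⬝ᵥ c) := by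
  rw [phi_apply, mul_vecMulVec, trace_vecMulVec]
  congr 2
  funext j
  simp [e0]

theorem smul_E0_eq (s : F) : s • E0 m F = vecMulVec (e0 m F) (s • e0 m F) := by
  rw [vecMulVec_smul, ← E0_eq]

theorem phi_E0 (B : Mat (m + 1) F) (s : F) : phi B (s • E0 m F) = chi F (B 0 0 * s) := by
  rw [smul_E0_eq, phi_row]
  simp [e0, mul_comm]

/-- The eigenspace projection of the long root group. -/
noncomputable def blk (b : F) : Module.End ℂ U :=
  ∑ B ∈ Finset.univ.filter (fun B : Mat (m + 1) F => B 0 0 = b), piB ρ B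

theorem piB_mul_blk (b : F) (B : Mat (m + 1) F) : piB ρ B * blk ρ b = if B 0 0 = b then piB ρ B else 0 := by
  classical
  rw [blk, Finset.mul_sum]
  simp only [piB_mul]
  rw [Finset.sum_ite_eq]
  simp

theorem blk_mul_piB (b : F) (B : Mat (m + 1) F) : blk ρ b * piB ρ B = if B 0 0 = b then piB ρ B else 0 := by
  classical
  rw [blk, Finset.sum_mul]
  simp only [piB_mul]
  rw [Finset.sum_ite_eq']
  simp

theorem mid_eq_zero_of_root {g : Module.End ℂ U} (hg : ∀ s : F, Commute (ρ (siegel (s • E0 m F))) g)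
    {B B' : Mat (m + 1) F} (hne : B 0 0 ≠ B' 0 0) : piB ρ B * g * piB ρ B' = 0 := by
  obtain ⟨s, hs⟩ := (exists_char F).choose_spec _ (sub_ne_zero.mpr hne)
  refine mid_eq_zero ρ (hg s) fun h => hs ?_
  rw [phi_E0, phi_E0] at h
  show chi F ((B 0 0 - B' 0 0) * s) = 1
  rw [sub_mul, AddChar.map_sub_eq_div, h, div_self (AddChar.val_isUnit _ _).ne_zero]

theorem commute_blk {g : Module.End ℂ U} (hg : ∀ s : F, Commute (ρ (siegel (s • E0 m F))) g) (b : F) :
    Commute (blk ρ b) g := by
  classical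
  show _ = _
  calc blk ρ b * g = ∑ B' : Mat (m + 1) F, blk ρ b * g * piB ρ B' := by
        rw [← Finset.mul_sum, sum_piB, mul_one]
    _ = ∑ B' : Mat (m + 1) F, blk ρ b * g * (blk ρ b * piB ρ B') := by
        refine Finset.sum_congr rfl fun B' _ => ?_
        rw [blk_mul_piB]
        split_ifs with h
        · rfl
        · rw [mul_zero]
          conv_lhs => rw [blk, Finset.sum_mul, Finset.sum_mul]
          refine Finset.sum_eq_zero fun B hB => mid_eq_zero_of_root ρ hg ?_
          rw [(Finset.mem_filter.mp hB).2]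
          exact Ne.symm h
    _ = blk ρ b * g * blk ρ b := by rw [← Finset.mul_sum, ← Finset.mul_sum, sum_piB, mul_one]
    _ = ∑ B' : Mat (m + 1) F, (piB ρ B' * blk ρ b) * g * blk ρ b := by
        rw [← Finset.sum_mul, ← Finset.sum_mul, ← Finset.sum_mul, sum_piB, one_mul]
    _ = ∑ B' : Mat (m + 1) F, piB ρ B' * g * blk ρ b := by
        refine Finset.sum_congr rfl fun B' _ => ?_
        rw [piB_mul_blk]
        split_ifs with h
        · rfl
        · rw [zero_mul, zero_mul]
          conv_rhs => rw [blk, Finset.mul_sum]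
          refine (Finset.sum_eq_zero fun B hB => mid_eq_zero_of_root ρ hg ?_).symm
          rw [(Finset.mem_filter.mp hB).2]
          exact h
    _ = g * blk ρ b := by rw [← Finset.sum_mul, ← Finset.sum_mul, sum_piB, one_mul]

/-- The equivariant operators of the `b`-block. -/
structure InH (b : F) (f : Module.End ℂ U) : Prop where
  left : blk ρ b * f = f
  right : f * blk ρ b = f
  row : ∀ c : Fin (m + 1) → F, Commute (ρ (siegel (vecMulVec (e0 m F) c))) f
  tr : ∀ (d : Fin (m + 1) → F) (hd : d 0 = 0), Commute (ρ (trans d hd)) f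

variable {ρ}

theorem InH.root {b : F} {f : Module.End ℂ U} (h : InH ρ b f) (s : F) :
    Commute (ρ (siegel (s • E0 m F))) f := by
  rw [smul_E0_eq]; exact h.row _

theorem InH.commute_siegel (hR : RankLE1 ρ) {b : F} (hb : b ≠ 0) {f : Module.End ℂ U} (hf : InH ρ b f)
    (M : Mat (m + 1) F) : Commute (ρ (siegel M)) f := by
  classical
  have key : ∀ B B' : Mat (m + 1) F, B ≠ B' → piB ρ B * f * piB ρ B' = 0 := by
    intro B B' hne
    by_contra h0
    have e1 : B 0 0 = b := by
      by_contra h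
      apply h0
      rw [← hf.left, ← mul_assoc, piB_mul_blk, if_neg h, zero_mul, zero_mul]
    have e2 : B' 0 0 = b := by
      by_contra h
      apply h0
      rw [← hf.right, mul_assoc, mul_assoc, blk_mul_piB, if_neg h, mul_zero, mul_zero]
    have p1 : piB ρ B ≠ 0 := fun h => h0 (by rw [h, zero_mul, zero_mul])
    have p2 : piB ρ B' ≠ 0 := fun h => h0 (by rw [h, mul_zero])
    have hrow : B 0 = B' 0 := psiChar_bijective.injective (DFunLike.ext _ _ fun c => by
      rw [psiChar_apply, psiChar_apply, ← phi_row, ← phi_row]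
      by_contra h
      exact h0 (mid_eq_zero ρ (hf.row c) h))
    refine hne (Matrix.ext fun i j => mul_right_cancel₀ hb ?_)
    have s1 : B i 0 = B 0 i := congrFun (congrFun (symm_of_piB_ne_zero ρ p1) 0) i
    have s2 : B' i 0 = B' 0 i := congrFun (congrFun (symm_of_piB_ne_zero ρ p2) 0) i
    calc B i j * b = B i j * B 0 0 := by rw [e1]
      _ = B i 0 * B 0 j := hR B p1 i j 0 0
      _ = B' i 0 * B' 0 j := by rw [s1, s2, hrow]
      _ = B' i j * B' 0 0 := (hR B' p2 i j 0 0).symm
      _ = B' i j * b := by rw [e2]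
  refine commute_siegel_of_piB ρ (fun B => ?_) M
  show _ = _
  calc piB ρ B * f = ∑ B' : Mat (m + 1) F, piB ρ B * f * piB ρ B' := by rw [← Finset.mul_sum, sum_piB, mul_one]
    _ = piB ρ B * f * piB ρ B := Finset.sum_eq_single B (fun B' _ h => key B B' (Ne.symm h)) (by simp)
    _ = ∑ B' : Mat (m + 1) F, piB ρ B' * f * piB ρ B :=
        (Finset.sum_eq_single B (fun B' _ h => key B' B h) (by simp)).symm
    _ = f * piB ρ B := by rw [← Finset.sum_mul, ← Finset.sum_mul, sum_piB, one_mul]

theorem trans_zero : trans (0 : Fin (m + 1) → F) rfl = 1 := by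
  have : trUnit (0 : Fin (m + 1) → F) rfl = 1 := Units.ext (by simp [trUnit])
  rw [trans, this, levi_one]

theorem trans_congr {d d' : Fin (m + 1) → F} (h : d = d') (hd : d 0 = 0) (hd' : d' 0 = 0) :
    trans d hd = trans d' hd' := by
  subst h; rfl

theorem trans_mul (d d' : Fin (m + 1) → F) (hd : d 0 = 0) (hd' : d' 0 = 0) :
    trans d hd * trans d' hd' = trans (d + d') (by simp [hd, hd']) := by
  rw [trans, trans, trans, ← levi_mul]
  congr 1
  refine Units.ext ?_
  show (1 - vecMulVec (e0 m F) d) * (1 - vecMulVec (e0 m F) d') = 1 - vecMulVec (e0 m F) (d + d')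
  rw [mul_sub, sub_mul, sub_mul, one_mul, one_mul, mul_one, vecMulVec_mul_vecMulVec]
  simp [e0, hd, vecMulVec_add]
  abel

theorem trans_root (d : Fin (m + 1) → F) (hd : d 0 = 0) (s : F) :
    Commute (ρ (siegel (s • E0 m F))) (ρ (trans d hd)) := by
  show _ = _
  rw [← map_mul, ← map_mul, trans, levi_mul_siegel]
  congr 3
  show _ = (1 - vecMulVec (e0 m F) d) * (s • E0 m F) * (1 - vecMulVec (e0 m F) d)ᵀ
  simp [sub_mul, mul_sub, vec_mul_E0, E0_mul_vec, hd, transpose_vecMulVec]

section H2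

variable (h2 : (2 : F) ≠ 0)
include h2

theorem wP_root (s : F) : wP m F * siegel (s • E0 m F) = siegel (s • E0 m F) * wP m F := by
  have h := wP_siegel_row h2 (s • e0 m F)
  rw [← smul_E0_eq] at h
  have hd : Function.update (s • e0 m F) 0 0 = 0 := by
    funext i
    rcases eq_or_ne i 0 with rfl | hi
    · simp
    · simp [e0, Function.update_of_ne hi, Pi.single_eq_of_ne hi]
  rw [trans_congr hd _ rfl, trans_zero, one_mul] at h
  simpa [e0] using h

theorem InH.conj_wP {b : F} {f : Module.End ℂ U} (hf : InH ρ b f) :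
    InH ρ b (ρ (wP m F)⁻¹ * f * ρ (wP m F)) := by
  have hc : Commute (blk ρ b) (ρ (wP m F)) := commute_blk ρ (fun s => by
    show _ = _
    rw [← map_mul, ← map_mul, wP_root h2]) b
  have hc' : Commute (blk ρ b) (ρ (wP m F)⁻¹) := (commute_map_inv ρ hc.symm).symm
  refine ⟨?_, ?_, fun c => ?_, fun d hd => ?_⟩
  · rw [← mul_assoc, ← mul_assoc, hc'.eq, mul_assoc (ρ (wP m F)⁻¹), hf.left]
  · rw [mul_assoc, ← hc.eq, ← mul_assoc, mul_assoc (ρ (wP m F)⁻¹), hf.right]
  · refine commute_conj ρ (wP_siegel_row h2 c) (commute_map_mul ρ (hf.tr _ _) (hf.root _))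
  · refine commute_conj ρ (wP_trans h2 d hd) ?_
    rw [← vecMulVec_neg]
    exact hf.row _

theorem InH.commute_lower (hR : RankLE1 ρ) {b : F} (hb : b ≠ 0) {f : Module.End ℂ U} (hf : InH ρ b f)
    {M : Mat (m + 1) F} (hr : ∀ j, M 0 j = 0) (hc : ∀ i, M i 0 = 0) : Commute (ρ (lower M)) f := by
  have h1 := (hf.conj_wP h2).commute_siegel hR hb (-M)
  have h3 : (wP m F)⁻¹ * lower M = siegel (-M) * (wP m F)⁻¹ := by
    have h := wP_siegel_block h2 (M := -M) (fun j => by simp [hr]) (fun i => by simp [hc])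
    rw [neg_neg] at h
    rw [eq_mul_inv_iff_mul_eq, mul_assoc, ← h, inv_mul_cancel_left]
  have := commute_conj ρ h3 h1
  rwa [inv_inv, ← mul_assoc, ← mul_assoc, map_mul_inv, one_mul, mul_assoc, map_mul_inv, mul_one] at this

theorem InH.commute_levi_symm (hR : RankLE1 ρ) {b : F} (hb : b ≠ 0) {f : Module.End ℂ U} (hf : InH ρ b f)
    (A : GL (Fin (m + 1)) F) (hs : (A : Mat (m + 1) F)ᵀ = A) (he : (A : Mat (m + 1) F) * E0 m F = E0 m F) :
    Commute (ρ (levi A)) f := by
  have hP : ∀ i j, i = 0 ∨ j = 0 → (1 - E0 m F) i j = 0 := by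
    rintro i j (rfl | rfl)
    · rcases eq_or_ne j 0 with rfl | hj
      · simp [E0]
      · simp [E0, hj, hj.symm]
    · rcases eq_or_ne i 0 with rfl | hi
      · simp [E0]
      · simp [E0, hi, hi.symm]
  have hw : Commute (ρ (wP m F)) f := by
    refine commute_map_mul ρ (commute_map_mul ρ (hf.commute_siegel hR hb _) ?_) (hf.commute_siegel hR hb _)
    exact hf.commute_lower h2 hR hb (fun j => by simp [hP 0 j (Or.inl rfl)]) (fun i => by simp [hP i 0 (Or.inr rfl)])
  have hAi : ((A⁻¹ : GL (Fin (m + 1)) F) : Mat (m + 1) F) * E0 m F = E0 m F := by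
    conv_lhs => rw [← he, ← mul_assoc, A.inv_mul, one_mul]
  have hcol : ∀ i, ((A⁻¹ : GL (Fin (m + 1)) F) : Mat (m + 1) F) i 0 = E0 m F i 0 := fun i => by
    have := congrFun (congrFun hAi i) 0
    simpa [E0, Matrix.mul_apply, Matrix.single_apply, Finset.sum_ite_eq] using this
  have hrow : ∀ j, ((A⁻¹ : GL (Fin (m + 1)) F) : Mat (m + 1) F) 0 j = E0 m F 0 j := fun j => by
    have hYs : ((A⁻¹ : GL (Fin (m + 1)) F) : Mat (m + 1) F)ᵀ = ((A⁻¹ : GL (Fin (m + 1)) F) : Mat (m + 1) F) := by
      rw [Matrix.coe_units_inv, transpose_nonsing_inv, hs]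
    have h := hcol j
    rw [← hYs, transpose_apply] at h
    rw [h]
    exact congrFun (congrFun (E0_transpose (m := m) (F := F)) 0) j
  rw [levi_symm h2 A hs he]
  refine commute_map_mul ρ (commute_map_mul ρ (commute_map_mul ρ (hf.commute_siegel hR hb _) ?_)
    (hf.commute_siegel hR hb _)) hw
  exact hf.commute_lower h2 hR hb (fun j => by simp only [Matrix.smul_apply, Matrix.neg_apply, Matrix.sub_apply, hrow j, sub_self, neg_zero, smul_zero])
    (fun i => by simp only [Matrix.smul_apply, Matrix.neg_apply, Matrix.sub_apply, hcol i, sub_self, neg_zero, smul_zero])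

end H2

/-- The block embedding fixing `e₀`. -/
def embM (X : Mat m F) : Mat (m + 1) F :=
  Matrix.of (Fin.cons (Fin.cons 1 0) fun i => Fin.cons 0 (X i))

theorem embM_mul (X Y : Mat m F) : embM (X * Y) = embM X * embM Y := by
  ext i j
  cases i using Fin.cases <;> cases j using Fin.cases <;> simp [embM, Matrix.mul_apply, Fin.sum_univ_succ]

theorem embM_one : embM (1 : Mat m F) = 1 := by
  ext i j
  cases i using Fin.cases <;> cases j using Fin.cases <;>
    simp [embM, Matrix.one_apply, Fin.succ_ne_zero, eq_comm]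

theorem embM_transpose (X : Mat m F) : embM Xᵀ = (embM X)ᵀ := by
  ext i j
  cases i using Fin.cases <;> cases j using Fin.cases <;> simp [embM]

theorem embM_mul_E0 (X : Mat m F) : embM X * E0 m F = E0 m F := by
  ext i j
  cases i using Fin.cases <;> cases j using Fin.cases <;> simp [embM, E0, Fin.succ_ne_zero, Matrix.mul_apply, Matrix.single_apply, Fin.sum_univ_succ, eq_comm]

/-- The block embedding of the general linear group. -/
noncomputable def embGL : GL (Fin m) F →* GL (Fin (m + 1)) F :=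
  Units.map { toFun := embM, map_one' := embM_one, map_mul' := embM_mul }

theorem coe_embGL (A : GL (Fin m) F) : (embGL A : Mat (m + 1) F) = embM (A : Mat m F) := rfl

theorem transvection_swap_symm (i j : Fin m) (hij : i ≠ j) (c : F) :
    (transvection i j c * (Equiv.swap i j).permMatrix F)ᵀ = transvection i j c * (Equiv.swap i j).permMatrix F := by
  rw [Equiv.Perm.permMatrix, PEquiv.mul_toMatrix_toPEquiv, Equiv.symm_swap]
  ext a b
  simp only [transpose_apply, submatrix_apply, id_eq, transvection, Matrix.add_apply, Matrix.one_apply,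
    Matrix.single_apply]
  rcases eq_or_ne a i with rfl | ha
  · rcases eq_or_ne b a with rfl | hb
    · rfl
    · rcases eq_or_ne b j with rfl | hb'
      · simp [hb, Ne.symm hb]
      · simp [Equiv.swap_apply_of_ne_of_ne hb hb', hij, hb, hb', Ne.symm hb, Ne.symm hb', hij.symm]
  · rcases eq_or_ne b i with rfl | hb
    · rcases eq_or_ne a j with rfl | ha'
      · simp [ha, Ne.symm ha]
      · simp [Equiv.swap_apply_of_ne_of_ne ha ha', hij, ha, ha', Ne.symm ha, Ne.symm ha', hij.symm]
    · rcases eq_or_ne a j with rfl | ha'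
      · rcases eq_or_ne b a with rfl | hb'
        · rfl
        · simp [Equiv.swap_apply_of_ne_of_ne hb hb', hij, hb, hb', Ne.symm hb, Ne.symm hb', ha, Ne.symm ha]
      · rcases eq_or_ne b j with rfl | hb'
        · simp [Equiv.swap_apply_of_ne_of_ne ha ha', hij, ha, ha', Ne.symm ha, Ne.symm ha', hb, Ne.symm hb]
        · simp [Equiv.swap_apply_of_ne_of_ne ha ha', Equiv.swap_apply_of_ne_of_ne hb hb', ha, ha', hb, hb',
            Ne.symm ha, Ne.symm hb, eq_comm]

theorem InH.commute_emb (h2 : (2 : F) ≠ 0) (hR : RankLE1 ρ) {b : F} (hb : b ≠ 0) {f : Module.End ℂ U}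
    (hf : InH ρ b f) (A : GL (Fin m) F) : Commute (ρ (levi (embGL A))) f := by
  have hsym : ∀ A : GL (Fin m) F, (A : Mat m F)ᵀ = A → Commute (ρ (levi (embGL A))) f := fun A hA =>
    hf.commute_levi_symm h2 hR hb _ (by rw [coe_embGL, ← embM_transpose, hA]) (by rw [coe_embGL, embM_mul_E0])
  let P : Mat m F → Prop := fun X => ∀ A : GL (Fin m) F, (A : Mat m F) = X → Commute (ρ (levi (embGL A))) f
  suffices h : P (A : Mat m F) from h A rfl
  refine diagonal_transvection_induction_of_det_ne_zero P _ ?_ ?_ ?_ ?_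
  · exact (Matrix.GeneralLinearGroup.det A).ne_zero
  · intro D _ A hA
    exact hsym A (by rw [hA, diagonal_transpose])
  · intro t A hA
    set σ : Equiv.Perm (Fin m) := Equiv.swap t.i t.j with hσ
    set S : Mat m F := σ.permMatrix F with hS
    have hSS : S * S = 1 := by
      rw [hS, ← Matrix.permMatrix_mul, hσ, Equiv.swap_mul_self, Matrix.permMatrix_one]
    have hSs : Sᵀ = S := by
      rw [hS, Matrix.transpose_permMatrix, hσ, Equiv.swap_inv]
    let uS : GL (Fin m) F := ⟨S, S, hSS, hSS⟩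
    have e : A = (A * uS) * uS := by
      rw [mul_assoc, show uS * uS = 1 from Units.ext hSS, mul_one]
    rw [e, map_mul, levi_mul]
    refine commute_map_mul ρ (hsym _ ?_) (hsym _ hSs)
    show ((A : Mat m F) * S)ᵀ = (A : Mat m F) * S
    rw [hA, hS, hσ]
    exact transvection_swap_symm t.i t.j t.hij t.c
  · intro X Y hX hY pX pY A hA
    let uX := Matrix.GeneralLinearGroup.mkOfDetNeZero X hX
    let uY := Matrix.GeneralLinearGroup.mkOfDetNeZero Y hY
    have e : A = uX * uY := Units.ext hA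
    rw [e, map_mul, levi_mul]
    exact commute_map_mul ρ (pX uX rfl) (pY uY rfl)

/-- The symmetrisation of a corner operator over the translations. -/
noncomputable def spread (ρ : Representation ℂ (Sp (m + 1) F) U) (f : Module.End ℂ U) : Module.End ℂ U :=
  ∑ d : {d : Fin (m + 1) → F // d 0 = 0}, ρ (trans d.1 d.2) * f * ρ (trans d.1 d.2)⁻¹

theorem act_trUnit (b : F) (d : Fin (m + 1) → F) (hd : d 0 = 0) :
    act (trUnit d hd) (b • E0 m F) = b • vecMulVec (e0 m F + d) (e0 m F + d) := by
  show (1 + vecMulVec (e0 m F) d)ᵀ * (b • E0 m F) * (1 + vecMulVec (e0 m F) d) = _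
  simp [transpose_vecMulVec, add_mul, mul_add, vec_mul_E0, E0_mul_vec, vecMulVec_mul_vecMulVec, e0, hd,
    vecMulVec_add, add_vecMulVec, ← E0_eq, smul_add]
  rw [E0_eq]
  simp [e0]
  try abel

theorem spread_inH {b : F} {f : Module.End ℂ U} (hl : piB ρ (b • E0 m F) * f = f)
    (hr : f * piB ρ (b • E0 m F) = f) : InH ρ b (spread ρ f) := by
  have h00 : (b • E0 m F) 0 0 = b := by simp [E0]
  have hbl : blk ρ b * f = f := by rw [← hl, ← mul_assoc, blk_mul_piB, if_pos h00]
  have hbr : f * blk ρ b = f := by rw [← hr, mul_assoc, piB_mul_blk, if_pos h00]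
  have hc : ∀ d hd, Commute (blk ρ b) (ρ (trans d hd)) := fun d hd => commute_blk ρ (trans_root d hd) b
  refine ⟨?_, ?_, fun c => Commute.sum_right _ _ _ fun d _ => ?_, fun e he => ?_⟩
  · rw [spread, Finset.mul_sum]
    refine Finset.sum_congr rfl fun d _ => ?_
    rw [← mul_assoc, ← mul_assoc, (hc d.1 d.2).eq, mul_assoc (ρ (trans d.1 d.2)), hbl]
  · rw [spread, Finset.sum_mul]
    refine Finset.sum_congr rfl fun d _ => ?_
    rw [mul_assoc, (commute_map_inv ρ (hc d.1 d.2).symm).eq, ← mul_assoc, mul_assoc (ρ (trans d.1 d.2)) f, hbr]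
  · exact conj_levi_commute_siegel ρ (commute_siegel_of_corner ρ hl hr) _ _
  · show _ = _
    rw [spread, Finset.mul_sum, Finset.sum_mul]
    refine Fintype.sum_equiv
      (⟨fun d => ⟨e + d.1, by simp [he, d.2]⟩, fun d => ⟨-e + d.1, by simp [he, d.2]⟩,
        fun d => Subtype.ext (by simp), fun d => Subtype.ext (by simp)⟩ :
        {d : Fin (m + 1) → F // d 0 = 0} ≃ {d : Fin (m + 1) → F // d 0 = 0}) _ _ fun d => ?_
    show _ = ρ (trans (e + d.1) _) * f * ρ (trans (e + d.1) _)⁻¹ * ρ (trans e he)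
    rw [← trans_mul e d.1 he d.2, _root_.mul_inv_rev, map_mul, map_mul]
    simp only [mul_assoc]
    rw [map_inv_mul, mul_one]

theorem spread_corner {b : F} (hb : b ≠ 0) {f : Module.End ℂ U} (hl : piB ρ (b • E0 m F) * f = f)
    (hr : f * piB ρ (b • E0 m F) = f) :
    piB ρ (b • E0 m F) * spread ρ f * piB ρ (b • E0 m F) = f := by
  classical
  rw [spread, Finset.mul_sum, Finset.sum_mul, Finset.sum_eq_single (⟨0, rfl⟩ : {d : Fin (m + 1) → F // d 0 = 0})]
  · rw [trans_zero, inv_one, map_one, one_mul, mul_one, hl, hr]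
  · intro d _ hd
    have hne : b • E0 m F ≠ act (trUnit d.1 d.2) (b • E0 m F) := by
      intro h
      rw [act_trUnit] at h
      refine hd (Subtype.ext (funext fun j => ?_))
      have hj := congrFun (congrFun h 0) j
      rcases eq_or_ne j 0 with rfl | hj0
      · simp [d.2]
      · simp [E0, e0, vecMulVec_apply, d.2, hj0, hj0.symm, hb] at hj
        exact hj.symm ▸ rfl
    have h1 : piB ρ (b • E0 m F) * (ρ (trans d.1 d.2) * piB ρ (b • E0 m F)) = 0 := by
      rw [trans, levi_mul_piB, ← mul_assoc, piB_orth ρ hne, zero_mul]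
    calc piB ρ (b • E0 m F) * (ρ (trans d.1 d.2) * f * ρ (trans d.1 d.2)⁻¹) * piB ρ (b • E0 m F)
        = piB ρ (b • E0 m F) * (ρ (trans d.1 d.2) * piB ρ (b • E0 m F)) *
          (f * ρ (trans d.1 d.2)⁻¹ * piB ρ (b • E0 m F)) := by
          conv_lhs => rw [← hl]
          simp only [mul_assoc]
      _ = 0 := by rw [h1, zero_mul]
  · simp

theorem act_embGL (b : F) (A : GL (Fin m) F) : act (embGL A) (b • E0 m F) = b • E0 m F := by
  show (((embGL A)⁻¹ : GL (Fin (m + 1)) F) : Mat (m + 1) F)ᵀ * _ * _ = _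
  rw [← map_inv, coe_embGL, mul_smul_comm, smul_mul_assoc, ← embM_transpose, embM_mul_E0]
  congr 1
  calc E0 m F * embM (((A⁻¹ : GL (Fin m) F)) : Mat m F)
      = (embM (((A⁻¹ : GL (Fin m) F)) : Mat m F)ᵀ * E0 m F)ᵀ := by
        rw [transpose_mul, E0_transpose, embM_transpose, transpose_transpose]
    _ = E0 m F := by rw [embM_mul_E0, E0_transpose]

theorem corner_commute_emb (h2 : (2 : F) ≠ 0) (hR : RankLE1 ρ) {b : F} (hb : b ≠ 0) {f : Module.End ℂ U}
    (hl : piB ρ (b • E0 m F) * f = f) (hr : f * piB ρ (b • E0 m F) = f) (A : GL (Fin m) F) :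
    Commute (ρ (levi (embGL A))) f := by
  have h1 := (spread_inH hl hr).commute_emb h2 hR hb A
  have hp : Commute (ρ (levi (embGL A))) (piB ρ (b • E0 m F)) := (commute_piB_levi ρ (act_embGL b A)).symm
  rw [← spread_corner hb hl hr]
  exact (hp.mul_right h1).mul_right hp

/-- `levi (1 + y e₀ᵀ)` -/
noncomputable def lowUnit (y : Fin (m + 1) → F) (hy : y 0 = 0) : GL (Fin (m + 1)) F :=
  ⟨1 + vecMulVec y (e0 m F), 1 - vecMulVec y (e0 m F), by
    simp [mul_sub, add_mul, vecMulVec_mul_vecMulVec, e0, hy], by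
    simp [mul_add, sub_mul, vecMulVec_mul_vecMulVec, e0, hy]⟩

theorem corner_commute_stab (h2 : (2 : F) ≠ 0) (hR : RankLE1 ρ)
    (hneg : ∀ f : Module.End ℂ U, Commute (ρ (levi (-1 : GL (Fin (m + 1)) F))) f) {b : F} (hb : b ≠ 0)
    {f : Module.End ℂ U} (hl : piB ρ (b • E0 m F) * f = f) (hr : f * piB ρ (b • E0 m F) = f)
    (A : GL (Fin (m + 1)) F) (hA : act A (b • E0 m F) = b • E0 m F) : Commute (ρ (levi A)) f := by
  -- the unipotent part
  have hlow : ∀ (y : Fin (m + 1) → F) (hy : y 0 = 0), Commute (ρ (levi (lowUnit y hy))) f := by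
    intro y hy
    set P := levi (lowUnit y hy) with hP
    set D := levi (embGL (Units.mkOfMulEqOne ((2 : F) • (1 : Mat m F)) ((2 : F)⁻¹ • 1)
      (by rw [smul_mul_smul_comm, mul_one, mul_inv_cancel₀ h2, one_smul]))) with hD
    have hDP : D * P = P * P * D := by
      rw [hD, hP, ← levi_mul, ← levi_mul, ← levi_mul]
      congr 1
      refine Units.ext ?_
      show embM ((2 : F) • (1 : Mat m F)) * (1 + vecMulVec y (e0 m F)) =
        (1 + vecMulVec y (e0 m F)) * (1 + vecMulVec y (e0 m F)) * embM ((2 : F) • (1 : Mat m F))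
      have e1 : embM ((2 : F) • (1 : Mat m F)) *ᵥ y = (2 : F) • y := by
        funext i
        cases i using Fin.cases <;> simp [embM, Matrix.mulVec, dotProduct, Fin.sum_univ_succ, hy, Matrix.one_apply]
      have e2 : e0 m F ᵥ* embM ((2 : F) • (1 : Mat m F)) = e0 m F := by
        funext i
        cases i using Fin.cases <;> simp [embM, e0]
      simp only [mul_add, add_mul, mul_one, one_mul, mul_vecMulVec, vecMulVec_mul, e1, e2, vecMulVec_mul_vecMulVec]
      simp [e0, hy, vecMulVec_mul, e2, two_smul, add_vecMulVec, vecMulVec_mulVec]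
      try abel
    have hp : Commute (piB ρ (b • E0 m F)) (ρ P) := commute_piB_levi ρ (by
      show (1 - vecMulVec y (e0 m F))ᵀ * (b • E0 m F) * (1 - vecMulVec y (e0 m F)) = _
      simp [transpose_vecMulVec, sub_mul, mul_sub, vec_mul_E0, E0_mul_vec, hy])
    have hp' : Commute (piB ρ (b • E0 m F)) (ρ P⁻¹) := (commute_map_inv ρ hp.symm).symm
    set g := ρ P * f * ρ P⁻¹ with hg
    have gl : piB ρ (b • E0 m F) * g = g := by
      rw [hg, ← mul_assoc, ← mul_assoc, hp.eq, mul_assoc (ρ P), hl]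
    have gr : g * piB ρ (b • E0 m F) = g := by
      rw [hg, mul_assoc, ← hp'.eq, ← mul_assoc, mul_assoc (ρ P), hr]
    have c1 : Commute (ρ D) g := corner_commute_emb h2 hR hb gl gr _
    have c2 : Commute (ρ D) f := corner_commute_emb h2 hR hb hl hr _
    -- `g = P g P⁻¹`
    have h4 : g = ρ P * g * ρ P⁻¹ := by
      calc g = ρ D * g * ρ D⁻¹ := by rw [c1.eq, mul_assoc, map_mul_inv, mul_one]
        _ = (ρ D * ρ P) * f * (ρ P⁻¹ * ρ D⁻¹) := by rw [hg]; simp only [mul_assoc]
        _ = ρ (P * P) * (ρ D * f) * (ρ D⁻¹ * ρ (P * P)⁻¹) := by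
            rw [← map_mul, ← map_mul, ← map_mul ρ D⁻¹, ← _root_.mul_inv_rev, ← _root_.mul_inv_rev, ← hDP,
              ← mul_assoc (ρ (P * P)), ← map_mul, ← hDP]
        _ = ρ (P * P) * f * ρ (P * P)⁻¹ := by
            rw [c2.eq]; simp only [mul_assoc]; rw [← mul_assoc (ρ D), map_mul_inv, one_mul]
        _ = ρ P * g * ρ P⁻¹ := by rw [hg, _root_.mul_inv_rev, map_mul, map_mul]; simp only [mul_assoc]
    have h5 : f = g := by
      calc f = ρ P⁻¹ * g * ρ P := by
            rw [hg]; simp only [mul_assoc]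
            rw [map_inv_mul, mul_one, ← mul_assoc, map_inv_mul, one_mul]
        _ = ρ P⁻¹ * (ρ P * g * ρ P⁻¹) * ρ P := by rw [← h4]
        _ = g := by simp only [mul_assoc]; rw [map_inv_mul, mul_one, ← mul_assoc, map_inv_mul, one_mul]
    show _ = _
    conv_rhs => rw [h5, hg, mul_assoc, map_inv_mul, mul_one]
  -- the general element
  have hA' : (A : Mat (m + 1) F)ᵀ * (b • E0 m F) * (A : Mat (m + 1) F) = b • E0 m F := by
    rw [← act_inv]
    conv_lhs => rw [← hA]
    rw [act_inv_act]
  rw [E0_eq, mul_smul_comm, smul_mul_assoc, mul_vecMulVec, vecMulVec_mul] at hA'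
  have hent : ∀ j, (A : Mat (m + 1) F) 0 0 * (A : Mat (m + 1) F) 0 j = e0 m F j := fun j => by
    have := congrFun (congrFun (smul_right_injective _ hb hA') 0) j
    simpa [e0, vecMulVec_apply, Matrix.mulVec, Matrix.vecMul, dotProduct, Pi.single_apply] using this
  have h00 : (A : Mat (m + 1) F) 0 0 * (A : Mat (m + 1) F) 0 0 = 1 := by simpa [e0] using hent 0
  suffices hfix : ∀ A : GL (Fin (m + 1)) F, (∀ j, (A : Mat (m + 1) F) 0 j = e0 m F j) → Commute (ρ (levi A)) f by
    rcases mul_self_eq_one_iff.mp h00 with h | h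
    · exact hfix A fun j => by simpa [h] using hent j
    · have e : A = (-1) * (-1 * A) := by simp
      rw [e, levi_mul]
      refine commute_map_mul ρ (hneg f) (hfix _ fun j => ?_)
      have := hent j
      rw [h] at this
      simpa using this
  intro A hrow
  set y : Fin (m + 1) → F := Function.update (fun i => (A : Mat (m + 1) F) i 0) 0 0 with hy
  have hy0 : y 0 = 0 := Function.update_self _ _ _
  set X : Mat m F := (A : Mat (m + 1) F).submatrix Fin.succ Fin.succ with hX
  have hfact : (A : Mat (m + 1) F) = (1 + vecMulVec y (e0 m F)) * embM X := by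
    ext i j
    cases i using Fin.cases <;> cases j using Fin.cases <;>
      simp [add_mul, vecMulVec_mul, Matrix.vecMul, dotProduct, vecMulVec_apply, embM, e0, hy, hX, hrow,
        Fin.succ_ne_zero]
  have hdet : X.det ≠ 0 := by
    intro h0
    have h1 := (Matrix.GeneralLinearGroup.det A).ne_zero
    apply h1
    show (A : Mat (m + 1) F).det = 0
    rw [hfact, det_mul, Matrix.det_succ_row_zero (embM X), Fin.sum_univ_succ,
      Finset.sum_eq_zero (fun i _ => by simp [embM])]
    have : (embM X).submatrix Fin.succ Fin.succ = X := by ext a c; simp [embM]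
    simp [embM] at this ⊢
    right
    exact h0
  have e : A = lowUnit y hy0 * embGL (Matrix.GeneralLinearGroup.mkOfDetNeZero X hdet) := Units.ext hfact
  rw [e, levi_mul]
  exact commute_map_mul ρ (hlow y hy0) (corner_commute_emb h2 hR hb hl hr _)

end CfsgLib.SpWeilRankOne
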