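import Cfsg.Agent.Lib.SpWeilRankOne.Block

set_option autoImplicit false
set_option linter.unusedSectionVars false
set_option linter.style.haveILetI false
set_option linter.unusedSimpArgs false
set_option linter.unnecessarySeqFocus false

/-! Operators commuting with the Siegel parabolic commute with all of `Sp_2n` between rank-one eigenspaces. -/

namespace CfsgLib.SpWeilRankOne

open Matrix CfsgLib.SpWeilDeg

variable {F : Type*} [Field F] [Fintype F] [DecidableEq F]
variable {U : Type*} [AddCommGroup U] [Module ℂ U]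

section Decomp

variable {n : ℕ}

/-- A symplectic matrix with first column blocks `1, 0` is a Siegel element. -/
theorem eq_siegel (h2 : (2 : F) ≠ 0) (u : Sp n F) (h11 : u.1.toBlocks₁₁ = 1) (h21 : u.1.toBlocks₂₁ = 0) :
    ∃ M, u = siegel M := by
  set X := u.1.toBlocks₁₂
  set Y := u.1.toBlocks₂₂
  have hu : u.1 = fromBlocks 1 X 0 Y := by rw [← h11, ← h21]; exact (fromBlocks_toBlocks u.1).symm
  have hs := SymplecticGroup.mem_iff'.mp u.2
  rw [hu, Matrix.J, fromBlocks_transpose, fromBlocks_multiply, fromBlocks_multiply] at hs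
  obtain ⟨-, e12, -, e22⟩ := Matrix.fromBlocks_inj.mp hs
  simp at e12 e22
  have hY : Y = 1 := e12
  rw [hY] at e22
  simp at e22
  have hX : Xᵀ = X := (neg_add_eq_zero.mp (by rw [← e22]; abel) : Xᵀ = X)
  refine ⟨(2 : F)⁻¹ • X, Subtype.ext ?_⟩
  rw [coe_siegel, half_add h2 hX, hu, hY]

theorem exists_shift (g : Sp n F) :
    ∃ S : Mat n F, Sᵀ = S ∧ (g.1.toBlocks₁₁ + S * g.1.toBlocks₂₁).det ≠ 0 := by
  classical
  set A := g.1.toBlocks₁₁ with hA
  set B := g.1.toBlocks₁₂
  set C := g.1.toBlocks₂₁ with hC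
  set D := g.1.toBlocks₂₂
  have hg : g.1 = fromBlocks A B C D := (fromBlocks_toBlocks g.1).symm
  have hs := SymplecticGroup.mem_iff'.mp g.2
  rw [hg, Matrix.J, fromBlocks_transpose, fromBlocks_multiply, fromBlocks_multiply] at hs
  obtain ⟨e11, -, -, -⟩ := Matrix.fromBlocks_inj.mp hs
  have hAC : Aᵀ * C = Cᵀ * A := by
    simp at e11
    exact (add_neg_eq_zero.mp e11).symm
  obtain ⟨W, hW⟩ := Submodule.exists_isCompl (LinearMap.range A.mulVecLin)
  let bas := Module.finBasis F W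
  let R : Matrix (Fin n) (Fin (Module.finrank F W)) F := Matrix.of fun i a => (bas a : Fin n → F) i
  have hR : ∀ v, R *ᵥ v = ((∑ a, v a • bas a : W) : Fin n → F) := fun v => by
    funext i
    simp [R, Matrix.mulVec, dotProduct, Finset.sum_apply, mul_comm]
  refine ⟨R * Rᵀ, by rw [transpose_mul, transpose_transpose], fun hdet => ?_⟩
  obtain ⟨x, hx0, hx⟩ := Matrix.exists_mulVec_eq_zero_iff.mpr hdet
  rw [add_mulVec, ← mulVec_mulVec, ← mulVec_mulVec] at hx
  set w := Rᵀ *ᵥ (C *ᵥ x) with hw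
  have hmem : R *ᵥ w ∈ W := by rw [hR]; exact Submodule.coe_mem _
  have hAx : A *ᵥ x = 0 := by
    have h1 : A *ᵥ x ∈ W := by rw [eq_neg_of_add_eq_zero_left hx]; exact W.neg_mem hmem
    exact (Submodule.disjoint_def.mp hW.disjoint) _ ⟨x, rfl⟩ h1
  rw [hAx, zero_add, hR] at hx
  have hw0 : ∀ a, w a = 0 := Fintype.linearIndependent_iff.mp bas.linearIndependent w (Subtype.ext hx)
  have hperp : ∀ y : Fin n → F, y ⬝ᵥ (C *ᵥ x) = 0 := by
    intro y
    obtain ⟨p, ⟨z, rfl⟩, q, hq, rfl⟩ := Submodule.mem_sup.mp (hW.sup_eq_top ▸ Submodule.mem_top (x := y))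
    rw [add_dotProduct]
    have h1 : A.mulVecLin z ⬝ᵥ (C *ᵥ x) = 0 := by
      show (A *ᵥ z) ⬝ᵥ (C *ᵥ x) = 0
      rw [dotProduct_comm, dotProduct_mulVec, ← mulVec_transpose, mulVec_mulVec, hAC, ← mulVec_mulVec, hAx,
        mulVec_zero, zero_dotProduct]
    have h2 : q ⬝ᵥ (C *ᵥ x) = 0 := by
      have hq' : q = ((∑ a, bas.repr ⟨q, hq⟩ a • bas a : W) : Fin n → F) := by rw [bas.sum_repr]
      rw [hq', ← hR, dotProduct_comm, dotProduct_mulVec, ← mulVec_transpose, ← hw]
      exact Finset.sum_eq_zero fun a _ => by rw [hw0 a, zero_mul]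
    rw [h1, h2, add_zero]
  have hCx : C *ᵥ x = 0 := funext fun i => by simpa using hperp (Pi.single i 1)
  have hgx : g.1 *ᵥ Sum.elim x 0 = 0 := by
    rw [hg, fromBlocks_mulVec]
    simp [hAx, hCx]
  have e : ((g⁻¹ : Sp n F)).1 * g.1 = 1 := congrArg Subtype.val (inv_mul_cancel g)
  have h0 : Sum.elim x (0 : Fin n → F) = 0 := by
    rw [← one_mulVec (Sum.elim x (0 : Fin n → F)), ← e, ← mulVec_mulVec, hgx, mulVec_zero]
  exact hx0 (funext fun i => congrFun h0 (Sum.inl i))

theorem exists_decomp (h2 : (2 : F) ≠ 0) (g : Sp n F) :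
    ∃ (S M N : Mat n F) (A : GL (Fin n) F), g = siegel S * (lower M * (levi A * siegel N)) := by
  classical
  obtain ⟨S, hS, hdet⟩ := exists_shift g
  set S' := (2 : F)⁻¹ • S
  set g' := siegel S' * g with hg'
  set A := g'.1.toBlocks₁₁ with hA
  set B := g'.1.toBlocks₁₂
  set C := g'.1.toBlocks₂₁ with hC
  set D := g'.1.toBlocks₂₂
  have hgg : g'.1 = fromBlocks A B C D := (fromBlocks_toBlocks g'.1).symm
  have hA' : A = g.1.toBlocks₁₁ + S * g.1.toBlocks₂₁ := by
    rw [hA, hg']
    show ((siegel S').1 * g.1).toBlocks₁₁ = _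
    conv_lhs => rw [coe_siegel, half_add h2 hS, ← fromBlocks_toBlocks g.1, fromBlocks_multiply, toBlocks_fromBlocks₁₁]
    rw [one_mul]
  have hAdet : A.det ≠ 0 := by rw [hA']; exact hdet
  set uA := Matrix.GeneralLinearGroup.mkOfDetNeZero A hAdet with huA
  set Ai : Mat n F := ((uA⁻¹ : GL (Fin n) F) : Mat n F) with hAi
  have hAAi : A * Ai = 1 := uA.mul_inv
  have hAiA : Ai * A = 1 := uA.inv_mul
  have hs := SymplecticGroup.mem_iff'.mp g'.2
  rw [hgg, Matrix.J, fromBlocks_transpose, fromBlocks_multiply, fromBlocks_multiply] at hs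
  obtain ⟨e11, -, -, -⟩ := Matrix.fromBlocks_inj.mp hs
  have hAC : Aᵀ * C = Cᵀ * A := by
    simp at e11
    exact (add_neg_eq_zero.mp e11).symm
  have hK : (C * Ai)ᵀ = C * Ai := by
    calc (C * Ai)ᵀ = Aiᵀ * Cᵀ * (A * Ai) := by rw [hAAi, mul_one, transpose_mul]
      _ = Aiᵀ * (Cᵀ * A) * Ai := by simp only [mul_assoc]
      _ = (A * Ai)ᵀ * C * Ai := by rw [← hAC, transpose_mul]; simp only [mul_assoc]
      _ = _ := by rw [hAAi, transpose_one, one_mul]
  set M := (2 : F)⁻¹ • (C * Ai) with hM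
  set u := (levi uA)⁻¹ * ((lower M)⁻¹ * g') with hu
  have hu1 : u.1 = fromBlocks Ai 0 0 Aᵀ * (fromBlocks 1 0 (-(C * Ai)) 1 * fromBlocks A B C D) := by
    rw [hu, ← levi_inv, lower_inv, ← hgg]
    show (levi uA⁻¹).1 * ((lower (-M)).1 * g'.1) = _
    rw [coe_levi, inv_inv, coe_lower, hM, ← smul_neg, half_add h2 (by rw [transpose_neg, hK])]
    rfl
  obtain ⟨N, hN⟩ := eq_siegel h2 u
    (by rw [hu1, fromBlocks_multiply, fromBlocks_multiply, toBlocks_fromBlocks₁₁]; simp [hAiA])
    (by rw [hu1, fromBlocks_multiply, fromBlocks_multiply, toBlocks_fromBlocks₂₁]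
        simp [mul_assoc, hAiA])
  refine ⟨-S', M, N, uA, ?_⟩
  rw [← hN, hu, hg', ← siegel_inv]
  group

end Decomp

variable {m : ℕ} (ρ : Representation ℂ (Sp (m + 1) F) U) (T : Module.End ℂ U)

/-- Commutes with the Siegel parabolic. -/
structure PEquiv : Prop where
  sieg : ∀ M, Commute (ρ (siegel M)) T
  lev : ∀ A, Commute (ρ (levi A)) T

/-- `T` commutes with `g` between the `B` and `B'` eigenspaces. -/
def Cm (g : Sp (m + 1) F) (B B' : Mat (m + 1) F) : Prop :=
  piB ρ B * (ρ g * T - T * ρ g) * piB ρ B' = 0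

/-- `T` commutes with `g` between non-trivial eigenspaces. -/
def CmAll (g : Sp (m + 1) F) : Prop := ∀ B B', B ≠ 0 → B' ≠ 0 → Cm ρ T g B B'

/-- The form `B` is not supported by `a`. -/
def Gen (B : Mat (m + 1) F) (a : Fin (m + 1) → F) : Prop := ∃ k, a ⬝ᵥ k = 0 ∧ k ⬝ᵥ (B *ᵥ k) ≠ 0

/-- `lower (l • a aᵀ)` -/
def lowRay (l : F) (a : Fin (m + 1) → F) : Sp (m + 1) F := lower (l • vecMulVec a a)

variable {ρ T}

theorem cm_of_zero_left {B : Mat (m + 1) F} (h : piB ρ B = 0) (g : Sp (m + 1) F) (B' : Mat (m + 1) F) :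
    Cm ρ T g B B' := by
  rw [Cm, h, zero_mul, zero_mul]

theorem cm_of_zero_right {B' : Mat (m + 1) F} (h : piB ρ B' = 0) (g : Sp (m + 1) F) (B : Mat (m + 1) F) :
    Cm ρ T g B B' := by
  rw [Cm, h, mul_zero]

theorem cm_base (h2 : (2 : F) ≠ 0) (hR : RankLE1 ρ) (hT : PEquiv ρ T) {M : Mat (m + 1) F}
    (hr : ∀ j, M 0 j = 0) (hc : ∀ i, M i 0 = 0) (B B' : Mat (m + 1) F) :
    ((B 0 0 ≠ 0 ∨ B' 0 0 ≠ 0) → Cm ρ T (lower M) B B') ∧
      (piB ρ B * ρ (lower M) * piB ρ B' ≠ 0 → B 0 0 = B' 0 0) := by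
  classical
  have hroot : ∀ s : F, Commute (ρ (siegel (s • E0 m F))) (ρ (lower M)) := fun s => by
    show _ = _
    rw [← map_mul, ← map_mul]
    refine congrArg ρ (Subtype.ext ?_)
    show (siegel _).1 * (lower M).1 = (lower M).1 * (siegel _).1
    have h1 : E0 m F * (M + Mᵀ) = 0 := by
      ext i j
      rcases eq_or_ne i 0 with rfl | hi
      · simp [E0, hr, hc]
      · simp [E0, hi]
    have h3 : (M + Mᵀ) * E0 m F = 0 := by
      ext i j
      rcases eq_or_ne j 0 with rfl | hj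
      · simp [E0, hr, hc]
      · simp [E0, hj]
    rw [coe_siegel, coe_lower, fromBlocks_multiply, fromBlocks_multiply]
    simp only [transpose_smul, E0_transpose, ← add_smul, one_mul, mul_one, zero_mul, mul_zero, add_zero, zero_add,
      smul_mul_assoc, mul_smul_comm, h1, h3, smul_zero]
  have hdiag : B 0 0 ≠ B' 0 0 → piB ρ B * ρ (lower M) * piB ρ B' = 0 := mid_eq_zero_of_root ρ hroot
  refine ⟨fun hne => ?_, fun h => ?_⟩
  · by_cases heq : B 0 0 = B' 0 0
    · have hb : B 0 0 ≠ 0 := hne.elim id (fun h => by rwa [heq])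
      set b := B 0 0 with hb'
      have hbT : Commute (blk ρ b) T := commute_blk ρ (fun s => hT.sieg _) b
      have hbr : ∀ c, Commute (ρ (siegel (vecMulVec (e0 m F) c))) (blk ρ b) := fun c =>
        (Commute.sum_right _ _ _ fun C _ => by
          show _ = _
          rw [siegel_mul_piB, piB_mul_siegel])
      have hH : InH ρ b (T * blk ρ b) := by
        have hbb : blk ρ b * blk ρ b = blk ρ b := by
          conv_lhs => arg 2; rw [blk]
          conv_rhs => rw [blk]
          rw [Finset.mul_sum]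
          refine Finset.sum_congr rfl fun C hC => ?_
          rw [blk_mul_piB, if_pos (Finset.mem_filter.mp hC).2]
        refine ⟨?_, by rw [mul_assoc, hbb], fun c => (hT.sieg _).mul_right (hbr c),
          fun d hd => (hT.lev _).mul_right (commute_blk ρ (trans_root d hd) b).symm⟩
        rw [← mul_assoc, hbT.eq, mul_assoc, hbb]
      have hg := hH.commute_lower h2 hR hb hr hc
      have hgb : Commute (blk ρ b) (ρ (lower M)) := commute_blk ρ hroot b
      have e1 : blk ρ b * piB ρ B' = piB ρ B' := by rw [blk_mul_piB, if_pos heq.symm]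
      show _ * _ * _ = 0
      rw [mul_sub, sub_mul, sub_eq_zero]
      calc piB ρ B * (ρ (lower M) * T) * piB ρ B'
          = piB ρ B * (ρ (lower M) * (T * blk ρ b)) * piB ρ B' := by
            conv_lhs => rw [← e1]
            simp only [mul_assoc]
        _ = piB ρ B * (T * blk ρ b * ρ (lower M)) * piB ρ B' := by rw [hg.eq]
        _ = piB ρ B * (T * ρ (lower M)) * piB ρ B' := by
            rw [mul_assoc T, hgb.eq]
            conv_rhs => rw [← e1]
            simp only [mul_assoc]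
    · have c1 : piB ρ B * T = T * piB ρ B := (piB_commute_of_siegel ρ hT.sieg B).eq
      have c2 : T * piB ρ B' = piB ρ B' * T := (piB_commute_of_siegel ρ hT.sieg B').eq.symm
      show _ * _ * _ = 0
      rw [mul_sub, sub_mul, sub_eq_zero]
      calc piB ρ B * (ρ (lower M) * T) * piB ρ B' = piB ρ B * ρ (lower M) * piB ρ B' * T := by
            simp only [mul_assoc]; rw [c2]
        _ = T * (piB ρ B * ρ (lower M) * piB ρ B') := by rw [hdiag heq, zero_mul, mul_zero]
        _ = piB ρ B * (T * ρ (lower M)) * piB ρ B' := by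
            rw [← mul_assoc, ← mul_assoc, ← c1]; simp only [mul_assoc]
  · by_contra hh
    exact h (hdiag hh)

theorem cm_ker (hm : 1 ≤ m) (h2 : (2 : F) ≠ 0) (hR : RankLE1 ρ) (hT : PEquiv ρ T) {M : Mat (m + 1) F}
    {k : Fin (m + 1) → F} (hk : (M + Mᵀ) *ᵥ k = 0) (B B' : Mat (m + 1) F) :
    ((k ⬝ᵥ (B *ᵥ k) ≠ 0 ∨ k ⬝ᵥ (B' *ᵥ k) ≠ 0) → Cm ρ T (lower M) B B') ∧
      (piB ρ B * ρ (lower M) * piB ρ B' ≠ 0 → k ⬝ᵥ (B *ᵥ k) = k ⬝ᵥ (B' *ᵥ k)) := by
  by_cases hk0 : k = 0
  · subst hk0; simp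
  obtain ⟨Q, hQ⟩ := exists_gl_mulVec (n := m + 1) (by omega) (a := e0 m F) (b := k) (by simp [e0]) hk0
  set Qm : Mat (m + 1) F := (Q : Mat (m + 1) F) with hQm
  set M1 : Mat (m + 1) F := (2 : F)⁻¹ • (Qmᵀ * (M + Mᵀ) * Qm) with hM1
  have hsymm : (Qmᵀ * (M + Mᵀ) * Qm)ᵀ = Qmᵀ * (M + Mᵀ) * Qm := by
    simp only [transpose_mul, transpose_add, transpose_transpose, mul_assoc, add_comm Mᵀ M]
  have hcol : ∀ i, M1 i 0 = 0 := fun i => by
    have : (Qmᵀ * (M + Mᵀ) * Qm) *ᵥ e0 m F = 0 := by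
      rw [← mulVec_mulVec, hQ, ← mulVec_mulVec, hk, mulVec_zero]
    have := congrFun this i
    simp [e0] at this
    simp [hM1, this]
  have hrow : ∀ j, M1 0 j = 0 := fun j => by
    have h := hcol j
    rw [hM1, Matrix.smul_apply, ← hsymm, transpose_apply, ← Matrix.smul_apply, ← hM1] at h
    exact h
  have hlow : lower (Qmᵀ * M * Qm) = lower M1 := lower_congr (by
    rw [hM1, half_add h2 hsymm]
    simp only [transpose_mul, transpose_transpose, mul_add, add_mul, mul_assoc])
  obtain ⟨h1, h3⟩ := cm_base h2 hR hT hrow hcol (act Q⁻¹ B) (act Q⁻¹ B')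
  have h00 : ∀ C : Mat (m + 1) F, act Q⁻¹ C 0 0 = k ⬝ᵥ (C *ᵥ k) := fun C => by
    rw [act_inv, ← hQ, dotProduct_comm, dotProduct_mulVec, ← mulVec_transpose, mulVec_mulVec, mulVec_mulVec]
    simp [e0, hQm, mul_assoc]
  rw [h00, h00] at h1 h3
  set L := ρ (levi Q⁻¹) with hL
  have hLL : ρ (levi Q) * L = 1 := by rw [hL, ← map_mul, ← levi_mul, mul_inv_cancel, levi_one, map_one]
  have hgL : L * ρ (lower M) = ρ (lower M1) * L := by
    rw [hL, ← map_mul, levi_mul_lower, map_mul, inv_inv, ← hQm, hlow]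
  have hpi : ∀ C, L * piB ρ C = piB ρ (act Q⁻¹ C) * L := fun C => levi_mul_piB ρ _ C
  have hTL : L * T = T * L := (hT.lev _).eq
  refine ⟨fun hne => ?_, fun hne => h3 fun h0 => hne ?_⟩
  · have h := h1 hne
    have key : L * (piB ρ B * (ρ (lower M) * T - T * ρ (lower M)) * piB ρ B') =
        piB ρ (act Q⁻¹ B) * (ρ (lower M1) * T - T * ρ (lower M1)) * piB ρ (act Q⁻¹ B') * L := by
      have e : L * (ρ (lower M) * T - T * ρ (lower M)) = (ρ (lower M1) * T - T * ρ (lower M1)) * L := by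
        rw [mul_sub, sub_mul, ← mul_assoc, hgL, mul_assoc, hTL, ← mul_assoc, ← mul_assoc L T, hTL,
          mul_assoc T L (ρ (lower M)), hgL, ← mul_assoc]
      rw [← mul_assoc, ← mul_assoc, hpi, mul_assoc _ L, e, mul_assoc, mul_assoc, mul_assoc, hpi]
      simp only [mul_assoc]
    rw [h, zero_mul] at key
    show _ = 0
    calc _ = ρ (levi Q) * (L * (piB ρ B * (ρ (lower M) * T - T * ρ (lower M)) * piB ρ B')) := by
          rw [← mul_assoc (ρ (levi Q)) L, hLL, one_mul]
      _ = 0 := by rw [key, mul_zero]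
  · calc piB ρ B * ρ (lower M) * piB ρ B'
        = ρ (levi Q) * (L * (piB ρ B * ρ (lower M) * piB ρ B')) := by
          rw [← mul_assoc (ρ (levi Q)) L, hLL, one_mul]
      _ = ρ (levi Q) * (piB ρ (act Q⁻¹ B) * ρ (lower M1) * piB ρ (act Q⁻¹ B') * L) := by
          rw [← mul_assoc L, ← mul_assoc L, hpi, mul_assoc _ L, hgL]
          simp only [mul_assoc]
          rw [hpi]
      _ = 0 := by rw [h0, zero_mul, mul_zero]

theorem lowRay_ker (l : F) {a k : Fin (m + 1) → F} (h : a ⬝ᵥ k = 0) :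
    (l • vecMulVec a a + (l • vecMulVec a a)ᵀ) *ᵥ k = 0 := by
  rw [transpose_smul, transpose_vecMulVec, add_mulVec, smul_mulVec, vecMulVec_mulVec, h]
  simp

theorem rank_one (hR : RankLE1 ρ) {B : Mat (m + 1) F} (hp : piB ρ B ≠ 0) (hB : B ≠ 0) :
    ∃ (c : F) (r : Fin (m + 1) → F), c ≠ 0 ∧ r ≠ 0 ∧ B = c • vecMulVec r r := by
  have hs : ∀ i j, B i j = B j i := fun i j => congrFun (congrFun (symm_of_piB_ne_zero ρ hp) j) i
  obtain ⟨i, hi⟩ : ∃ i, B i i ≠ 0 := by
    by_contra h
    push Not at h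
    refine hB (Matrix.ext fun a b => ?_)
    have := hR B hp a b b a
    rw [h a, h b, zero_mul, hs b a] at this
    exact mul_self_eq_zero.mp this
  refine ⟨(B i i)⁻¹, B i, inv_ne_zero hi, fun h => hi (congrFun h i), Matrix.ext fun a b => ?_⟩
  rw [Matrix.smul_apply, vecMulVec_apply, smul_eq_mul]
  have := hR B hp a b i i
  rw [hs a i] at this
  field_simp
  linear_combination this

theorem gen_of_minor {c : F} (hc : c ≠ 0) {r a : Fin (m + 1) → F} {i j : Fin (m + 1)}
    (h : r j * a i - r i * a j ≠ 0) : Gen (c • vecMulVec r r) a := by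
  refine ⟨a j • Pi.single i 1 - a i • Pi.single j 1, ?_, ?_⟩
  · simp [dotProduct_sub]; ring
  · rw [smul_mulVec, vecMulVec_mulVec, dotProduct_smul]
    simp only [sub_dotProduct, dotProduct_sub, smul_dotProduct, dotProduct_smul, single_one_dotProduct,
      dotProduct_single_one, smul_eq_mul, MulOpposite.smul_eq_mul_unop, MulOpposite.unop_op]
    intro h0
    have : c * (r j * a i - r i * a j) ^ 2 = 0 := by linear_combination h0
    exact h (pow_eq_zero_iff (by norm_num) |>.mp ((mul_eq_zero.mp this).resolve_left hc))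

theorem eq_smul_of_not_gen {c : F} (hc : c ≠ 0) {r a : Fin (m + 1) → F} (hr : r ≠ 0)
    (h : ¬Gen (c • vecMulVec r r) a) : ∃ t : F, a = t • r := by
  obtain ⟨i, hi⟩ := Function.ne_iff.mp hr
  refine ⟨a i / r i, funext fun j => ?_⟩
  by_contra hne
  refine h (gen_of_minor hc (i := i) (j := j) fun h0 => hne ?_)
  simp only [Pi.zero_apply] at hi
  rw [Pi.smul_apply, smul_eq_mul]
  field_simp
  linear_combination -h0

variable (hm : 1 ≤ m) (h2 : (2 : F) ≠ 0) (hR : RankLE1 ρ) (hT : PEquiv ρ T)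
include hm h2 hR hT

theorem cm_single (l : F) {a : Fin (m + 1) → F} {B B' : Mat (m + 1) F} (h : Gen B a ∨ Gen B' a) :
    Cm ρ T (lowRay l a) B B' := by
  rcases h with ⟨k, hak, hk⟩ | ⟨k, hak, hk⟩
  · exact (cm_ker hm h2 hR hT (lowRay_ker l hak) B B').1 (Or.inl hk)
  · exact (cm_ker hm h2 hR hT (lowRay_ker l hak) B B').1 (Or.inr hk)

theorem gen_transfer {l : F} {a : Fin (m + 1) → F} {B B' : Mat (m + 1) F}
    (h : piB ρ B * ρ (lowRay l a) * piB ρ B' ≠ 0) (hg : Gen B a) : Gen B' a := by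
  obtain ⟨k, hak, hk⟩ := hg
  exact ⟨k, hak, by rwa [← (cm_ker hm h2 hR hT (lowRay_ker l hak) B B').2 h]⟩

theorem cm_step {l : F} {a : Fin (m + 1) → F} {B B' : Mat (m + 1) F} {g : Sp (m + 1) F} (ha : Gen B a)
    (hg : ∀ B'', B'' ≠ 0 → Cm ρ T g B'' B') : Cm ρ T (lowRay l a * g) B B' := by
  set x := lowRay l a
  have e : ρ (x * g) * T - T * ρ (x * g) = ρ x * (ρ g * T - T * ρ g) + (ρ x * T - T * ρ x) * ρ g := by
    rw [map_mul]; noncomm_ring
  show _ = 0
  rw [e, mul_add, add_mul]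
  have e1 : piB ρ B * (ρ x * (ρ g * T - T * ρ g)) * piB ρ B' = 0 := by
    calc _ = ∑ C : Mat (m + 1) F, (piB ρ B * ρ x * piB ρ C) * (piB ρ C * (ρ g * T - T * ρ g) * piB ρ B') := by
          have hC : ∀ C : Mat (m + 1) F, (piB ρ B * ρ x * piB ρ C) * (piB ρ C * (ρ g * T - T * ρ g) * piB ρ B') =
              piB ρ B * ρ x * piB ρ C * ((ρ g * T - T * ρ g) * piB ρ B') := fun C => by
            calc _ = piB ρ B * ρ x * (piB ρ C * piB ρ C) * ((ρ g * T - T * ρ g) * piB ρ B') := by
                  simp only [mul_assoc]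
              _ = _ := by rw [piB_self]
          rw [Finset.sum_congr rfl fun C _ => hC C, ← Finset.sum_mul, ← Finset.mul_sum, sum_piB, mul_one]
          simp only [mul_assoc]
      _ = 0 := Finset.sum_eq_zero fun C _ => by
          by_cases h0 : piB ρ B * ρ x * piB ρ C = 0
          · rw [h0, zero_mul]
          · have hC : C ≠ 0 := by
              rintro rfl
              obtain ⟨k, -, hk⟩ := gen_transfer hm h2 hR hT h0 ha
              simp at hk
            rw [show piB ρ C * (ρ g * T - T * ρ g) * piB ρ B' = 0 from hg C hC, mul_zero]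
  have e2 : piB ρ B * ((ρ x * T - T * ρ x) * ρ g) * piB ρ B' = 0 := by
    calc _ = (∑ C : Mat (m + 1) F, piB ρ B * (ρ x * T - T * ρ x) * piB ρ C) * (ρ g * piB ρ B') := by
          rw [← Finset.mul_sum, sum_piB, mul_one]; simp only [mul_assoc]
      _ = 0 := by
          rw [Finset.sum_eq_zero fun C _ => cm_single hm h2 hR hT l (Or.inl ha), zero_mul]
  rw [e1, e2, add_zero]

theorem cm_ray (l : F) (a : Fin (m + 1) → F) : CmAll ρ T (lowRay l a) := by
  intro B B' hB hB'
  by_cases hp : piB ρ B = 0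
  · exact cm_of_zero_left hp _ _
  by_cases hp' : piB ρ B' = 0
  · exact cm_of_zero_right hp' _ _
  by_cases hg : Gen B a ∨ Gen B' a
  · exact cm_single hm h2 hR hT l hg
  push Not at hg
  by_cases ha : a = 0
  · subst ha
    show _ = 0
    simp [lowRay, lower_zero]
  obtain ⟨c, r, hc, hr, rfl⟩ := rank_one hR hp hB
  obtain ⟨c', r', hc', hr', rfl⟩ := rank_one hR hp' hB'
  obtain ⟨t, ht⟩ := eq_smul_of_not_gen hc hr hg.1
  obtain ⟨t', ht'⟩ := eq_smul_of_not_gen hc' hr' hg.2
  have ht0 : t ≠ 0 := fun h => ha (by rw [ht, h, zero_smul])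
  have ht0' : t' ≠ 0 := fun h => ha (by rw [ht', h, zero_smul])
  obtain ⟨i, hi⟩ := Function.ne_iff.mp ha
  simp only [Pi.zero_apply] at hi
  haveI : Nontrivial (Fin (m + 1)) := Fin.nontrivial_iff_two_le.mpr (by omega)
  obtain ⟨j, hji⟩ := exists_ne i
  set f : Fin (m + 1) → F := Pi.single j 1 with hf
  have fi : f i = 0 := Pi.single_eq_of_ne hji.symm _
  have fj : f j = 1 := Pi.single_eq_same _ _
  have key : lowRay l a = lowRay (-l) f * (lowRay (l / 2) (a + f) * lowRay (l / 2) (a - f)) := by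
    rw [lowRay, lowRay, lowRay, lowRay, lower_mul, lower_mul]
    congr 1
    ext p q
    simp [vecMulVec_apply]
    field_simp
    ring
  rw [key]
  have hgf : Gen (c • vecMulVec r r) f := gen_of_minor hc (i := i) (j := j) (by
    rw [fi, fj]
    intro h0
    apply hi
    rw [ht, Pi.smul_apply, smul_eq_mul]
    linear_combination -t * h0)
  refine cm_step hm h2 hR hT hgf fun C hC => ?_
  by_cases hpC : piB ρ C = 0
  · exact cm_of_zero_left hpC _ _
  have hgen' : ∀ s : F, s ≠ 0 → Gen (c' • vecMulVec r' r') (a + s • f) := fun s hs => gen_of_minor hc' (i := i) (j := j) (by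
    intro h0
    have h' : s * (t' * r' i) = 0 := by
      simp only [Pi.add_apply, Pi.smul_apply, smul_eq_mul, fi, fj, ht', mul_zero, mul_one, add_zero] at h0
      linear_combination -t' * h0
    rcases mul_eq_zero.mp h' with h | h
    · exact hs h
    · exact hi (by rw [ht', Pi.smul_apply, smul_eq_mul, h]))
  have g1 : Gen (c' • vecMulVec r' r') (a + f) := by simpa using hgen' 1 one_ne_zero
  have g2 : Gen (c' • vecMulVec r' r') (a - f) := by simpa [sub_eq_add_neg] using hgen' (-1) (by simp)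
  by_cases h1 : Gen C (a + f)
  · exact cm_step hm h2 hR hT h1 fun D _ => cm_single hm h2 hR hT _ (Or.inr g2)
  · have h3 : Gen C (a - f) := by
      obtain ⟨d, s, hd, hs, rfl⟩ := rank_one hR hpC hC
      obtain ⟨u, hu⟩ := eq_smul_of_not_gen hd hs h1
      refine gen_of_minor hd (i := i) (j := j) fun h0 => ?_
      have hui : a i = u * s i := by simpa [fi] using congrFun hu i
      have huj : a j + 1 = u * s j := by simpa [fj] using congrFun hu j
      simp only [Pi.sub_apply, fi, fj, sub_zero] at h0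
      have : (2 : F) * a i = 0 := by linear_combination u * h0 + a i * huj - (a j - 1) * hui
      exact hi ((mul_eq_zero.mp this).resolve_left h2)
    rw [show lowRay (l / 2) (a + f) * lowRay (l / 2) (a - f) = lowRay (l / 2) (a - f) * lowRay (l / 2) (a + f) by
      rw [lowRay, lowRay, lower_mul, lower_mul]; exact congrArg lower (add_comm _ _)]
    exact cm_step hm h2 hR hT h3 fun D _ => cm_single hm h2 hR hT _ (Or.inr g1)

omit hm h2 hR hT in
/-- The lower unipotent of a list of rays. -/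
def lowSum (L : List (F × (Fin (m + 1) → F))) : Mat (m + 1) F :=
  (L.map fun x => x.1 • vecMulVec x.2 x.2).sum

theorem cm_list : ∀ (N : ℕ) (L : List (F × (Fin (m + 1) → F))), L.length ≤ N → CmAll ρ T (lower (lowSum L)) := by
  intro N
  induction N with
  | zero =>
    intro L hL B B' _ _
    rw [List.length_eq_zero_iff.mp (by omega : L.length = 0)]
    show _ = 0
    simp [lowSum, lower_zero]
  | succ N ih =>
    intro L hL B B' hB hB'
    classical
    by_cases hp : piB ρ B = 0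
    · exact cm_of_zero_left hp _ _
    by_cases hex : ∃ x ∈ L, Gen B x.2
    · obtain ⟨x, hx, hg⟩ := hex
      have hperm := List.perm_cons_erase hx
      have e : lowSum L = lowSum (x :: L.erase x) := (hperm.map _).sum_eq
      rw [e, lowSum, List.map_cons, List.sum_cons, ← lower_mul]
      refine cm_step hm h2 hR hT hg fun C hC => ih _ ?_ C B' hC hB'
      rw [List.length_erase_of_mem hx]
      omega
    · push Not at hex
      obtain ⟨c, r, hc, hr, rfl⟩ := rank_one hR hp hB
      have hsum : ∀ L' : List (F × (Fin (m + 1) → F)), (∀ x ∈ L', ¬Gen (c • vecMulVec r r) x.2) →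
          ∃ s : F, lowSum L' = s • vecMulVec r r := by
        intro L'
        induction L' with
        | nil => exact fun _ => ⟨0, by simp [lowSum]⟩
        | cons y L'' ih' =>
          intro h
          obtain ⟨s, hs⟩ := ih' fun x hx => h x (List.mem_cons_of_mem _ hx)
          obtain ⟨t, ht⟩ := eq_smul_of_not_gen hc hr (h y List.mem_cons_self)
          refine ⟨y.1 * (t * t) + s, ?_⟩
          rw [lowSum, List.map_cons, List.sum_cons, show (L''.map fun x => x.1 • vecMulVec x.2 x.2).sum = s • vecMulVec r r from hs,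
            add_smul, ht, smul_vecMulVec, vecMulVec_smul, smul_smul, smul_smul, mul_assoc]
      obtain ⟨s, hs⟩ := hsum L hex
      rw [hs]
      exact cm_ray hm h2 hR hT s r _ _ hB hB'

theorem cm_lower (M : Mat (m + 1) F) : CmAll ρ T (lower M) := by
  classical
  let L : List (F × (Fin (m + 1) → F)) := (Finset.univ : Finset (Fin (m + 1) × Fin (m + 1))).toList.flatMap fun p =>
    [(M p.1 p.2 / 2, Pi.single p.1 1 + Pi.single p.2 1), (-(M p.1 p.2 / 2), Pi.single p.1 1),
      (-(M p.1 p.2 / 2), Pi.single p.2 1)]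
  have e : lower M = lower (lowSum L) := lower_congr (by
    have h1 : lowSum L = ∑ p : Fin (m + 1) × Fin (m + 1),
        (M p.1 p.2 / 2) • (vecMulVec (Pi.single p.1 (1 : F)) (Pi.single p.2 1) + vecMulVec (Pi.single p.2 1) (Pi.single p.1 1)) := by
      rw [lowSum, List.map_flatMap, List.flatMap_def, List.sum_flatten, List.map_map, ← Finset.sum_map_toList]
      congr 1
      refine List.map_congr_left fun p _ => ?_
      ext u v
      simp [vecMulVec_apply]
      ring
    rw [h1]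
    ext u v
    simp only [Matrix.add_apply, transpose_apply, Matrix.sum_apply, Matrix.smul_apply, vecMulVec_apply, smul_eq_mul,
      Fintype.sum_prod_type, mul_add, Finset.sum_add_distrib]
    simp [Pi.single_apply, Finset.sum_ite_eq, mul_ite]
    field_simp
    ring)
  rw [e]
  exact cm_list hm h2 hR hT _ L le_rfl

theorem cm_all (g : Sp (m + 1) F) : CmAll ρ T g := by
  intro B B' hB hB'
  obtain ⟨S, M, N, A, rfl⟩ := exists_decomp h2 g
  show _ = 0
  have e : ρ (siegel S * (lower M * (levi A * siegel N))) * T - T * ρ (siegel S * (lower M * (levi A * siegel N))) =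
      ρ (siegel S) * ((ρ (lower M) * T - T * ρ (lower M)) * ρ (levi A) * ρ (siegel N)) := by
    simp only [map_mul, sub_mul, mul_sub, mul_assoc]
    rw [(hT.sieg N).eq, ← mul_assoc (ρ (levi A)) T, (hT.lev A).eq]
    simp only [← mul_assoc]
    rw [(hT.sieg S).eq]
  rw [e, ← mul_assoc, piB_mul_siegel, smul_mul_assoc, smul_mul_assoc]
  have e2 : ρ (siegel N) * piB ρ B' = phi B' N • piB ρ B' := siegel_mul_piB ρ N B'
  simp only [mul_assoc, e2, mul_smul_comm]
  rw [levi_mul_piB]
  have := cm_lower hm h2 hR hT M B (act A B') hB (act_ne_zero A hB')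
  rw [Cm, mul_assoc] at this
  rw [← mul_assoc ((ρ (lower M)) * T - _), ← mul_assoc (piB ρ B), this]
  simp

end CfsgLib.SpWeilRankOne
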