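import Cfsg.Agent.Lib.SpWeilDeg.Lower

set_option autoImplicit false
set_option linter.unusedSectionVars false
set_option linter.style.haveILetI false
set_option linter.unusedSimpArgs false
set_option linter.unnecessarySeqFocus false

/-! Generators of `Sp_2n(q)` adapted to the first coordinate. -/

namespace CfsgLib.SpWeilRankOne

open Matrix CfsgLib.SpWeilDeg

variable {F : Type*} [Field F] [Fintype F] [DecidableEq F]

/-- Square matrices over `F`. -/
abbrev Mat (n : ℕ) (F : Type*) := Matrix (Fin n) (Fin n) F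

/-- `Sp_2n(F)`. -/
abbrev Sp (n : ℕ) (F : Type*) [Field F] [DecidableEq F] := Matrix.symplecticGroup (Fin n) F

/-- `[[1, 0], [M + Mᵀ, 1]]` -/
def lower {n : ℕ} (M : Mat n F) : Sp n F :=
  ⟨fromBlocks 1 0 (M + Mᵀ) 1, by
    rw [SymplecticGroup.mem_iff, Matrix.J, fromBlocks_transpose, fromBlocks_multiply, fromBlocks_multiply]
    simp [add_comm]
    try abel⟩

section General

variable {n : ℕ}

theorem coe_siegel (M : Mat n F) :
    (siegel M : Matrix (Fin n ⊕ Fin n) (Fin n ⊕ Fin n) F) = fromBlocks 1 (M + Mᵀ) 0 1 := rfl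

theorem coe_lower (M : Mat n F) :
    (lower M : Matrix (Fin n ⊕ Fin n) (Fin n ⊕ Fin n) F) = fromBlocks 1 0 (M + Mᵀ) 1 := rfl

theorem coe_levi (A : GL (Fin n) F) :
    (levi A : Matrix (Fin n ⊕ Fin n) (Fin n ⊕ Fin n) F) =
      fromBlocks (A : Mat n F) 0 0 ((A⁻¹ : GL (Fin n) F) : Mat n F)ᵀ := rfl

theorem lower_mul (M N : Mat n F) : lower M * lower N = lower (M + N) := by
  apply Subtype.ext
  show fromBlocks _ _ _ _ * fromBlocks _ _ _ _ = fromBlocks _ _ _ _
  rw [fromBlocks_multiply, Matrix.transpose_add]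
  congr 1 <;> simp
  abel

theorem lower_zero : lower (0 : Mat n F) = 1 := by
  apply Subtype.ext
  show fromBlocks _ _ _ _ = _
  simp [fromBlocks_one]

theorem lower_congr {M N : Mat n F} (h : M + Mᵀ = N + Nᵀ) : lower M = lower N :=
  Subtype.ext (by rw [coe_lower, coe_lower, h])

theorem lower_inv (M : Mat n F) : (lower M)⁻¹ = lower (-M) :=
  inv_eq_of_mul_eq_one_right (by rw [lower_mul, add_neg_cancel, lower_zero])

theorem siegel_inv (M : Mat n F) : (siegel M)⁻¹ = siegel (-M) :=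
  inv_eq_of_mul_eq_one_right (by rw [siegel_mul, add_neg_cancel, siegel_zero])

theorem levi_mul (A B : GL (Fin n) F) : levi (A * B) = levi A * levi B := by
  apply Subtype.ext
  show fromBlocks _ _ _ _ = fromBlocks _ _ _ _ * fromBlocks _ _ _ _
  rw [fromBlocks_multiply]
  simp [Matrix.transpose_mul]

/-- `levi` as a homomorphism. -/
noncomputable def leviHom : GL (Fin n) F →* Sp n F :=
  MonoidHom.mk' levi levi_mul

theorem levi_one : levi (1 : GL (Fin n) F) = 1 := (leviHom (F := F) (n := n)).map_one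

theorem levi_inv (A : GL (Fin n) F) : levi A⁻¹ = (levi A)⁻¹ := (leviHom (F := F) (n := n)).map_inv A

theorem levi_mul_siegel (A : GL (Fin n) F) (M : Mat n F) :
    levi A * siegel M = siegel ((A : Mat n F) * M * (A : Mat n F)ᵀ) * levi A := by
  rw [siegel_mul_levi]
  congr 2
  have h : ((A⁻¹ : GL (Fin n) F) : Mat n F) * (A : Mat n F) = 1 := A.inv_mul
  have h' : (A : Mat n F)ᵀ * (((A⁻¹ : GL (Fin n) F) : Mat n F))ᵀ = 1 := by rw [← transpose_mul, h, transpose_one]
  rw [← mul_assoc, ← mul_assoc, h, one_mul, mul_assoc, h', mul_one]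

theorem levi_mul_lower (A : GL (Fin n) F) (M : Mat n F) :
    levi A * lower M = lower (((A⁻¹ : GL (Fin n) F) : Mat n F)ᵀ * M * ((A⁻¹ : GL (Fin n) F) : Mat n F)) * levi A := by
  apply Subtype.ext
  show fromBlocks _ _ _ _ * fromBlocks _ _ _ _ = fromBlocks _ _ _ _ * fromBlocks _ _ _ _
  rw [fromBlocks_multiply, fromBlocks_multiply]
  have h : ((A⁻¹ : GL (Fin n) F) : Mat n F) * (A : Mat n F) = 1 := A.inv_mul
  congr 1 <;> simp [mul_add, add_mul, mul_assoc, Matrix.transpose_mul, h]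

end General

variable {m : ℕ}

/-- The matrix `e₀e₀ᵀ`. -/
def E0 (m : ℕ) (F : Type*) [Field F] : Mat (m + 1) F := Matrix.single 0 0 1

/-- The first basis vector. -/
def e0 (m : ℕ) (F : Type*) [Field F] : Fin (m + 1) → F := Pi.single 0 1

theorem E0_eq : E0 m F = vecMulVec (e0 m F) (e0 m F) := by
  ext i j
  simp [E0, e0, Matrix.single_apply, vecMulVec_apply, Pi.single_apply, eq_comm]
  aesop

theorem e0_dot_e0 : e0 m F ⬝ᵥ e0 m F = 1 := by simp [e0]

theorem E0_transpose : (E0 m F)ᵀ = E0 m F := by simp [E0]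

theorem E0_mul_E0 : E0 m F * E0 m F = E0 m F := by simp [E0]

/-- The partial Weyl element fixing the first hyperbolic pair. -/
noncomputable def wP (m : ℕ) (F : Type*) [Field F] [DecidableEq F] : Sp (m + 1) F :=
  siegel ((2 : F)⁻¹ • -(1 - E0 m F)) * lower ((2 : F)⁻¹ • (1 - E0 m F)) * siegel ((2 : F)⁻¹ • -(1 - E0 m F))

variable (h2 : (2 : F) ≠ 0)
include h2

theorem half_add {n : ℕ} {X : Mat n F} (hX : Xᵀ = X) : (2 : F)⁻¹ • X + ((2 : F)⁻¹ • X)ᵀ = X := by
  rw [transpose_smul, hX, ← add_smul, ← two_mul, mul_inv_cancel₀ h2, one_smul]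

theorem coe_wP : (wP m F : Matrix (Fin (m + 1) ⊕ Fin (m + 1)) (Fin (m + 1) ⊕ Fin (m + 1)) F) =
    fromBlocks (E0 m F) (-(1 - E0 m F)) (1 - E0 m F) (E0 m F) := by
  have hP : (1 - E0 m F)ᵀ = 1 - E0 m F := by rw [transpose_sub, transpose_one, E0_transpose]
  have hP' : (-(1 - E0 m F))ᵀ = -(1 - E0 m F) := by rw [transpose_neg, hP]
  show (siegel _).1 * (lower _).1 * (siegel _).1 = _
  rw [coe_siegel, coe_lower, half_add h2 hP, half_add h2 hP', fromBlocks_multiply, fromBlocks_multiply]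
  simp [mul_sub, sub_mul, E0_mul_E0]

omit h2 in
theorem E0_mul_vec (a b : Fin (m + 1) → F) : E0 m F * vecMulVec a b = a 0 • vecMulVec (e0 m F) b := by
  rw [E0_eq, vecMulVec_mul_vecMulVec]
  simp [e0, vecMulVec_smul]

omit h2 in
theorem vec_mul_E0 (a b : Fin (m + 1) → F) : vecMulVec a b * E0 m F = b 0 • vecMulVec a (e0 m F) := by
  rw [E0_eq, vecMulVec_mul_vecMulVec]
  simp [e0, vecMulVec_smul]

/-- `levi (1 - e₀ dᵀ)` -/
noncomputable def trUnit (d : Fin (m + 1) → F) (hd : d 0 = 0) : GL (Fin (m + 1)) F :=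
  ⟨1 - vecMulVec (e0 m F) d, 1 + vecMulVec (e0 m F) d, by
    simp [mul_add, sub_mul, vecMulVec_mul_vecMulVec, e0, hd], by
    simp [mul_sub, add_mul, vecMulVec_mul_vecMulVec, e0, hd]⟩

/-- The translations. -/
noncomputable def trans (d : Fin (m + 1) → F) (hd : d 0 = 0) : Sp (m + 1) F := levi (trUnit d hd)

omit h2 in
theorem coe_trans (d : Fin (m + 1) → F) (hd : d 0 = 0) :
    (trans d hd : Matrix (Fin (m + 1) ⊕ Fin (m + 1)) (Fin (m + 1) ⊕ Fin (m + 1)) F) =
      fromBlocks (1 - vecMulVec (e0 m F) d) 0 0 (1 + vecMulVec d (e0 m F)) := by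
  rw [trans, coe_levi]
  congr 1
  show (1 + vecMulVec (e0 m F) d)ᵀ = _
  rw [transpose_add, transpose_one, transpose_vecMulVec]

theorem wP_siegel_row (c : Fin (m + 1) → F) :
    wP m F * siegel (vecMulVec (e0 m F) c) =
      trans (Function.update c 0 0) (Function.update_self _ _ _) * siegel (c 0 • E0 m F) * wP m F := by
  set d := Function.update c 0 0 with hd
  have hd0 : d 0 = 0 := Function.update_self _ _ _
  have hc : c = d + c 0 • e0 m F := by
    funext i
    rcases eq_or_ne i 0 with rfl | hi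
    · simp [hd, e0]
    · simp [hd, e0, Function.update_of_ne hi, Pi.single_eq_of_ne hi]
  apply Subtype.ext
  show (wP m F).1 * (siegel _).1 =
    (trans d hd0).1 * (siegel _).1 * (wP m F).1
  rw [coe_wP h2, coe_trans, coe_siegel, coe_siegel, fromBlocks_multiply, fromBlocks_multiply, fromBlocks_multiply]
  conv_lhs => rw [hc]
  simp only [transpose_add, transpose_smul, E0_transpose, transpose_vecMulVec, vecMulVec_add, vecMulVec_smul,
    smul_zero, ← E0_eq, mul_add, add_mul, mul_sub, sub_mul, mul_neg, neg_mul, one_mul, mul_one, mul_zero,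
    zero_mul, add_zero, zero_add, E0_mul_E0, E0_mul_vec, vec_mul_E0, vecMulVec_mul_vecMulVec, mul_smul_comm,
    smul_mul_assoc, hd0, show e0 m F 0 = 1 by simp [e0], zero_smul, one_smul, smul_add, smul_sub]
  congr 1 <;> abel

theorem wP_trans (d : Fin (m + 1) → F) (hd : d 0 = 0) :
    wP m F * trans d hd = siegel (-vecMulVec (e0 m F) d) * wP m F := by
  apply Subtype.ext
  show (wP m F).1 * (trans d hd).1 = (siegel _).1 * (wP m F).1
  rw [coe_wP h2, coe_trans, coe_siegel, fromBlocks_multiply, fromBlocks_multiply]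
  simp only [transpose_neg, transpose_vecMulVec, mul_add, add_mul, mul_sub, sub_mul, mul_neg, neg_mul, one_mul,
    mul_one, mul_zero, zero_mul, add_zero, zero_add, neg_zero, E0_mul_E0, E0_mul_vec, vec_mul_E0, hd,
    show e0 m F 0 = 1 by simp [e0], zero_smul, one_smul, sub_zero]
  congr 1 <;> abel

theorem wP_siegel_block {M : Mat (m + 1) F} (hr : ∀ j, M 0 j = 0) (hc : ∀ i, M i 0 = 0) :
    wP m F * siegel M = lower (-M) * wP m F := by
  have h1 : E0 m F * (M + Mᵀ) = 0 := by
    ext i j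
    rcases eq_or_ne i 0 with rfl | hi
    · simp [E0, hr, hc]
    · simp [E0, hi]
  have h3 : (M + Mᵀ) * E0 m F = 0 := by
    ext i j
    rcases eq_or_ne j 0 with rfl | hj
    · simp [E0, hr, hc]
    · simp [E0, hj]
  apply Subtype.ext
  show (wP m F).1 * (siegel _).1 = (lower _).1 * (wP m F).1
  rw [coe_wP h2, coe_siegel, coe_lower, fromBlocks_multiply, fromBlocks_multiply, transpose_neg, ← neg_add]
  simp only [mul_sub, sub_mul, mul_neg, neg_mul, one_mul, mul_one, mul_zero, zero_mul, add_zero, zero_add, h1, h3,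
    sub_zero, neg_zero, neg_neg, neg_sub]
  congr 1 <;> abel

/-- Levi elements of symmetric matrices fixing `e₀`. -/
theorem levi_symm (A : GL (Fin (m + 1)) F) (hs : (A : Mat (m + 1) F)ᵀ = A)
    (he : (A : Mat (m + 1) F) * E0 m F = E0 m F) :
    levi A = siegel ((2 : F)⁻¹ • ((A : Mat (m + 1) F) - E0 m F)) *
      lower ((2 : F)⁻¹ • -(((A⁻¹ : GL (Fin (m + 1)) F) : Mat (m + 1) F) - E0 m F)) *
      siegel ((2 : F)⁻¹ • ((A : Mat (m + 1) F) - E0 m F)) * wP m F := by
  set X : Mat (m + 1) F := (A : Mat (m + 1) F) with hX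
  set Y : Mat (m + 1) F := ((A⁻¹ : GL (Fin (m + 1)) F) : Mat (m + 1) F) with hY
  have hXY : X * Y = 1 := A.mul_inv
  have hYX : Y * X = 1 := A.inv_mul
  have hEX : E0 m F * X = E0 m F := by
    have := congrArg Matrix.transpose he
    rwa [transpose_mul, hs, E0_transpose] at this
  have hYE : Y * E0 m F = E0 m F := by
    conv_lhs => rw [← he, ← mul_assoc, hYX, one_mul]
  have hEY : E0 m F * Y = E0 m F := by
    conv_lhs => rw [← hEX, mul_assoc, hXY, mul_one]
  have hYs : Yᵀ = Y := by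
    calc Yᵀ = Yᵀ * (X * Y) := by rw [hXY, mul_one]
      _ = (X * Y)ᵀ * Y := by rw [← mul_assoc, transpose_mul, hs]
      _ = Y := by rw [hXY, transpose_one, one_mul]
  apply Subtype.ext
  show (levi A).1 = (siegel _).1 * (lower _).1 * (siegel _).1 * (wP m F).1
  rw [coe_levi, coe_siegel, coe_lower, coe_wP h2, half_add h2 (by rw [transpose_sub, hs, E0_transpose]),
    half_add h2 (by rw [transpose_neg, transpose_sub, hYs, E0_transpose]), fromBlocks_multiply, fromBlocks_multiply,
    fromBlocks_multiply, ← hX, ← hY, hYs]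
  simp only [mul_add, add_mul, mul_sub, sub_mul, mul_neg, neg_mul, one_mul, mul_one, mul_zero, zero_mul, add_zero,
    zero_add, neg_neg, neg_sub, mul_assoc, he, hEX, hYE, hEY, hXY, hYX, E0_mul_E0]
  congr 1 <;> abel

end CfsgLib.SpWeilRankOne
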