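import Cfsg.Agent.Lib.SpWeilRankOne.Weil
import Cfsg.Agent.Lib.Characters.Basic

set_option autoImplicit false
set_option linter.unusedSectionVars false
set_option linter.style.haveILetI false
set_option linter.unusedSimpArgs false

/-! The four smallest irreducible characters of `Sp_2n(q)`. -/

namespace CfsgLib.SpWeilRankOne

open Matrix Cfsg CfsgLib.SpWeilDeg

variable {F : Type*} [Field F] [Fintype F] [DecidableEq F] {m : ℕ}
variable {U : Type*} [AddCommGroup U] [Module ℂ U]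

/-- The central involution. -/
noncomputable def negOne (m : ℕ) (F : Type*) [Field F] [Fintype F] [DecidableEq F] : Sp (m + 1) F :=
  levi (-1 : Matrix.GeneralLinearGroup (Fin (m + 1)) F)

theorem coe_negOne : (negOne m F : Matrix (Fin (m + 1) ⊕ Fin (m + 1)) (Fin (m + 1) ⊕ Fin (m + 1)) F) = -1 := by
  rw [negOne, coe_levi]
  simp [← fromBlocks_one, fromBlocks_neg]

theorem negOne_central (g : Sp (m + 1) F) : negOne m F * g = g * negOne m F := by
  apply Subtype.ext
  show (negOne m F).1 * g.1 = g.1 * (negOne m F).1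
  rw [coe_negOne]
  simp

theorem negOne_sq : negOne m F * negOne m F = 1 := by
  apply Subtype.ext
  show (negOne m F).1 * (negOne m F).1 = 1
  rw [coe_negOne]
  simp

theorem exists_sign [FiniteDimensional ℂ U] (ρ : Representation ℂ (Sp (m + 1) F) U) [ρ.IsIrreducible] :
    ∃ ε : ℂ, (ε = 1 ∨ ε = -1) ∧ ρ (negOne m F) = ε • (1 : Module.End ℂ U) := by
  obtain ⟨ε, hε⟩ := CfsgLib.Characters.schur_scalar ρ (ρ (negOne m F))
    (fun g => by rw [← map_mul, ← map_mul, negOne_central])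
  haveI : Nontrivial U := ((CfsgLib.Characters.isIrreducible_iff ρ).mp inferInstance).1
  refine ⟨ε, mul_self_eq_one_iff.mp (smul_left_injective ℂ (M := Module.End ℂ U) (m := 1) one_ne_zero ?_), hε⟩
  show (ε * ε) • (1 : Module.End ℂ U) = (1 : ℂ) • 1
  have h := congrArg ρ (negOne_sq (m := m) (F := F))
  rw [map_mul, map_one, hε, smul_mul_smul_comm, one_mul] at h
  rw [one_smul, h]

theorem exists_nonsq (hodd : Odd (Fintype.card F)) : ∃ ν : F, ν ≠ 0 ∧ ¬IsSquare ν := by
  obtain ⟨ν, hν⟩ := FiniteField.exists_nonsquare (F := F)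
    (fun h => Nat.not_even_iff_odd.mpr hodd (Nat.even_iff.mpr (FiniteField.even_card_of_char_two h)))
  exact ⟨ν, fun h => hν (h ▸ IsSquare.zero), hν⟩

theorem class_cases (hn : 1 ≤ m) (hodd : Odd (Fintype.card F)) {ρ : Representation ℂ (Sp (m + 1) F) U}
    (hR : RankLE1 ρ) {ν : F} (hν : ν ≠ 0) (hns : ¬IsSquare ν) {B : Mat (m + 1) F} (hp : piB ρ B ≠ 0) (hB : B ≠ 0) :
    ∃ e : F, (e = 1 ∨ e = ν) ∧ piB ρ (e • E0 m F) ≠ 0 := by
  obtain ⟨c, r, hc, hr, rfl⟩ := rank_one hR hp hB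
  obtain ⟨P, hP⟩ := exists_gl_mulVec (n := m + 1) (F := F) (by omega) hr
    (show e0 m F ≠ 0 by simp [e0])
  have h2 : (2 : F) ≠ 0 := two_ne hodd
  obtain ⟨e, t, he, ht, hct⟩ : ∃ e t : F, (e = 1 ∨ e = ν) ∧ t ≠ 0 ∧ c = e * (t * t) := by
    by_cases hs : IsSquare c
    · obtain ⟨t, rfl⟩ := hs
      exact ⟨1, t, Or.inl rfl, fun h => hc (by rw [h, mul_zero]), (one_mul _).symm⟩
    · have hchar : ringChar F ≠ 2 := fun h => Nat.not_even_iff_odd.mpr hodd
        (Nat.even_iff.mpr (FiniteField.even_card_of_char_two h))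
      have hq : quadraticChar F (c * ν) = 1 := by
        rw [map_mul, quadraticChar_neg_one_iff_not_isSquare.mpr hs, quadraticChar_neg_one_iff_not_isSquare.mpr hns]
        ring
      obtain ⟨t, ht⟩ := (quadraticChar_one_iff_isSquare (mul_ne_zero hc hν)).mp hq
      refine ⟨ν, t / ν, Or.inr rfl, div_ne_zero (fun h => mul_ne_zero hc hν (by rw [ht, h, mul_zero])) hν, ?_⟩
      field_simp
      linear_combination ht
  refine ⟨e, he, ?_⟩
  -- `Q` maps `r` to `t⁻¹ e₀`
  let Q : Matrix.GeneralLinearGroup (Fin (m + 1)) F :=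
    ⟨t⁻¹ • (P : Mat (m + 1) F), t • ((P⁻¹ : Matrix.GeneralLinearGroup (Fin (m + 1)) F) : Mat (m + 1) F),
      by rw [smul_mul_smul_comm, inv_mul_cancel₀ ht, one_smul]; exact P.mul_inv,
      by rw [smul_mul_smul_comm, mul_inv_cancel₀ ht, one_smul]; exact P.inv_mul⟩
  let A : Matrix.GeneralLinearGroup (Fin (m + 1)) F :=
    ⟨((Q⁻¹ : Matrix.GeneralLinearGroup (Fin (m + 1)) F) : Mat (m + 1) F)ᵀ, (Q : Mat (m + 1) F)ᵀ,
      by rw [← transpose_mul, Q.mul_inv, transpose_one],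
      by rw [← transpose_mul, Q.inv_mul, transpose_one]⟩
  have hact : act A (c • vecMulVec r r) = e • E0 m F := by
    show ((Q : Mat (m + 1) F)ᵀ)ᵀ * (c • vecMulVec r r) * (Q : Mat (m + 1) F)ᵀ = _
    rw [transpose_transpose, mul_smul_comm, smul_mul_assoc, mul_vecMulVec, vecMulVec_mul, vecMul_transpose]
    show c • vecMulVec ((t⁻¹ • (P : Mat (m + 1) F)) *ᵥ r) ((t⁻¹ • (P : Mat (m + 1) F)) *ᵥ r) = _
    rw [smul_mulVec, hP, smul_vecMulVec, vecMulVec_smul, ← E0_eq, smul_smul, smul_smul, hct]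
    congr 1
    field_simp
  rw [← hact]
  exact piB_ne_zero_act ρ A hp

theorem exists_spectrum (hn : 1 ≤ m) (hodd : Odd (Fintype.card F)) (ρ : Representation ℂ (Sp (m + 1) F) U)
    (hρ : ∃ g, ρ g ≠ 1) : ∃ B : Mat (m + 1) F, B ≠ 0 ∧ piB ρ B ≠ 0 := by
  classical
  by_contra h
  push Not at h
  have h2 : (2 : F) ≠ 0 := two_ne hodd
  have h0 : piB ρ 0 = 1 := by
    rw [← sum_piB ρ, Finset.sum_eq_single 0 (fun B _ hB => h B hB) (by simp)]
  have htriv : ∀ M, ρ (siegel M) = 1 := fun M => by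
    have := siegel_mul_piB ρ M 0
    rw [h0, mul_one] at this
    rw [this]
    simp [phi_apply]
  have hperf := CfsgLib.Sp.commutator_eq_top_of_card (m := m + 1) (F := F) rfl (by
    have : 2 ≤ Fintype.card F := Fintype.one_lt_card
    rcases Nat.lt_or_ge (Fintype.card F) 4 with h | h
    · exact Or.inr (Or.inl ⟨by rcases hodd with ⟨k, hk⟩; omega, by omega⟩)
    · exact Or.inl h)
  let N : Subgroup (Matrix.symplecticGroup (Fin (m + 1)) F) := ρ.toHomUnits.ker
  have hNmem : ∀ g, g ∈ N ↔ ρ g = 1 := fun g => Units.ext_iff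
  let M₀ : Mat (m + 1) F := Matrix.single 0 0 1
  rcases CfsgLib.Sp.normal_le_center_or_eq_top hperf N with hc | hc
  · let Jm : Matrix.symplecticGroup (Fin (m + 1)) F := ⟨Matrix.J (Fin (m + 1)) F, SymplecticGroup.J_mem _ _⟩
    have := congrArg (fun g : Matrix.symplecticGroup (Fin (m + 1)) F =>
      (g : Matrix (Fin (m + 1) ⊕ Fin (m + 1)) (Fin (m + 1) ⊕ Fin (m + 1)) F) (Sum.inl 0) (Sum.inl 0))
      (Subgroup.mem_center_iff.mp (hc ((hNmem _).mpr (htriv M₀))) Jm)
    simp [siegel, Jm, M₀, Matrix.J, Matrix.fromBlocks_multiply, one_add_one_eq_two] at this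
    exact h2 this.symm
  · obtain ⟨g, hg⟩ := hρ
    exact hg ((hNmem g).mp (hc ▸ Subgroup.mem_top g))

theorem finrank_eq_one_of_trivial [FiniteDimensional ℂ U] (ρ : Representation ℂ (Sp (m + 1) F) U)
    [ρ.IsIrreducible] (h : ∀ g, ρ g = 1) : Module.finrank ℂ U = 1 := by
  obtain ⟨hnt, hir⟩ := (CfsgLib.Characters.isIrreducible_iff ρ).mp inferInstance
  obtain ⟨v, hv⟩ := exists_ne (0 : U)
  rcases hir (Submodule.span ℂ {v}) (fun g x hx => by rw [h g]; exact hx) with h' | h'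
  · exact absurd (Submodule.span_singleton_eq_bot.mp h') hv
  · rw [← finrank_top ℂ U, ← h', finrank_span_singleton hv]

/-- The trace of a spectral projection is determined by the character. -/
theorem trace_piB [FiniteDimensional ℂ U] (ρ : Representation ℂ (Sp (m + 1) F) U) (B : Mat (m + 1) F) :
    LinearMap.trace ℂ U (piB ρ B) =
      (Fintype.card (Mat (m + 1) F) : ℂ)⁻¹ * ∑ M : Mat (m + 1) F, phi B (-M) * ρ.character (siegel M) := by
  simp only [piB, map_smul, map_sum, smul_eq_mul]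
  rfl

section Weil

variable (hodd : Odd (Fintype.card F))

/-- The four Weil representations: a parity and a square class. -/
noncomputable def weilTwist (s : ℂ) (e : F) (he : e ≠ 0) : Representation ℂ (Sp (m + 1) F) (part (m + 1) F s) :=
  (weilPart hodd s).comp (simHom (m + 1) e he)

theorem weilTwist_irreducible (hn : 1 ≤ m) (s : ℂ) (hs : s = 1 ∨ s = -1) (e : F) (he : e ≠ 0) :
    (weilTwist (m := m) hodd s e he).IsIrreducible :=
  isIrreducible_comp _ (weilPart_irreducible hodd (by omega) s hs) _ (simHom_surjective e he)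

theorem rankLE1_weilTwist (hn : 1 ≤ m) (s : ℂ) (hs : s = 1 ∨ s = -1) (e : F) (he : e ≠ 0) :
    RankLE1 (weilTwist (m := m) hodd s e he) :=
  rankLE1_of_small _ hodd (by omega) (weil_small hodd (by omega) (finrank_part_le hodd s hs))

theorem piB_weilTwist (s : ℂ) (e : F) (he : e ≠ 0) (B : Mat (m + 1) F) :
    piB (weilTwist hodd s e he) B = piB (weilPart hodd s) (e⁻¹ • B) :=
  piB_comp_simHom _ e he B

theorem piB_weilTwist_E0 (hn : 1 ≤ m) (s : ℂ) (hs : s = 1 ∨ s = -1) (e : F) (he : e ≠ 0) :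
    piB (weilTwist (m := m) hodd s e he) (e • E0 m F) ≠ 0 := by
  rw [piB_weilTwist, inv_smul_smul₀ he, E0_eq]
  exact (spectrum_weilPart hodd (by omega) s hs).2 _ (by simp [e0])

theorem weilTwist_negOne : ∃ c : ℂ, (c = 1 ∨ c = -1) ∧ ∀ (s : ℂ) (e : F) (he : e ≠ 0),
    weilTwist (m := m) hodd s e he (negOne m F) = (c * s) • (1 : Module.End ℂ (part (m + 1) F s)) := by
  obtain ⟨c, hc0, hc⟩ := weilFull_neg (n := m + 1) hodd
  have hcc : (c * c) • (1 : Module.End ℂ ((Fin (m + 1) → F) → ℂ)) = (1 : ℂ) • 1 := by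
    have h := congrArg (weilFull (n := m + 1) hodd) (negOne_sq (m := m) (F := F))
    rw [map_mul, map_one, negOne, hc, smul_mul_smul_comm, parity_sq] at h
    rw [h, one_smul]
  refine ⟨c, mul_self_eq_one_iff.mp (smul_left_injective ℂ (M := Module.End ℂ ((Fin (m + 1) → F) → ℂ)) (m := 1) one_ne_zero hcc), fun s e he => ?_⟩
  refine LinearMap.ext fun f => Subtype.ext ?_
  show ((weilPart hodd s (simHom (m + 1) e he (negOne m F)) f : part (m + 1) F s) : (Fin (m + 1) → F) → ℂ) = _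
  rw [negOne, simHom_neg, coe_weilPart, hc, LinearMap.smul_apply, mem_part.mp f.2, smul_smul]
  rfl

/-- A small non-trivial irreducible representation is one of the four. -/
theorem classify [FiniteDimensional ℂ U] (hn : 1 ≤ m) {ν : F} (hν : ν ≠ 0) (hns : ¬IsSquare ν)
    (ρ : Representation ℂ (Sp (m + 1) F) U) [ρ.IsIrreducible]
    (hd : 2 * (Fintype.card F + 1) * Module.finrank ℂ U <
      (Fintype.card F ^ (m + 1) - 1) * (Fintype.card F ^ (m + 1) - Fintype.card F))
    (h1 : Module.finrank ℂ U ≠ 1) :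
    ∃ (s : ℂ) (e : F) (he : e ≠ 0), (s = 1 ∨ s = -1) ∧ (e = 1 ∨ e = ν) ∧
      ρ.character = (weilTwist hodd s e he).character := by
  have hnt : ∃ g, ρ g ≠ 1 := by
    by_contra h
    push Not at h
    exact h1 (finrank_eq_one_of_trivial ρ h)
  have hR := rankLE1_of_small ρ hodd (by omega) hd
  obtain ⟨B, hB, hp⟩ := exists_spectrum hn hodd ρ hnt
  obtain ⟨e, he, hpe⟩ := class_cases hn hodd hR hν hns hp hB
  have he0 : e ≠ 0 := by rcases he with rfl | rfl <;> simp [hν]
  obtain ⟨ε, hε, hρε⟩ := exists_sign ρ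
  obtain ⟨c, hc, hW⟩ := weilTwist_negOne (m := m) hodd
  have hs : c * ε = 1 ∨ c * ε = -1 := by rcases hc with rfl | rfl <;> rcases hε with rfl | rfl <;> simp
  refine ⟨c * ε, e, he0, hs, he, ?_⟩
  haveI := weilTwist_irreducible hodd hn (c * ε) hs e he0
  refine character_eq hn (two_ne hodd) ρ (weilTwist hodd (c * ε) e he0) hR
    (rankLE1_weilTwist hodd hn _ hs e he0) (ε := ε) hρε ?_ he0 hpe (piB_weilTwist_E0 hodd hn _ hs e he0)
  show weilTwist hodd (c * ε) e he0 (negOne m F) = _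
  rw [hW]
  congr 1
  rcases hc with rfl | rfl <;> ring

theorem character_one_weilTwist (s : ℂ) (e : F) (he : e ≠ 0) :
    (weilTwist (m := m) hodd s e he).character 1 = (Module.finrank ℂ (part (m + 1) F s) : ℂ) :=
  Representation.char_one _

theorem weilTwist_ne (hn : 1 ≤ m) (s : ℂ) (hs : s = 1 ∨ s = -1) {ν : F} (hν : ν ≠ 0) (hns : ¬IsSquare ν) :
    (weilTwist (m := m) hodd s 1 one_ne_zero).character ≠ (weilTwist (m := m) hodd s ν hν).character := by
  intro h
  have h0 : piB (weilTwist (m := m) hodd s 1 one_ne_zero) (ν • E0 m F) = 0 := by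
    by_contra hne
    rw [piB_weilTwist, inv_one, one_smul] at hne
    obtain ⟨x, hx⟩ := (spectrum_weilPart hodd (by omega) s hs).1 _ hne
    have := congrFun (congrFun hx 0) 0
    simp [E0, vecMulVec_apply] at this
    exact hns ⟨x 0, this⟩
  have := idem_trace_ne_zero (piB_self (weilTwist (m := m) hodd s ν hν) (ν • E0 m F))
    (piB_weilTwist_E0 hodd hn s hs ν hν)
  rw [trace_piB, ← h, ← trace_piB, h0, map_zero] at this
  exact this rfl

end Weil

/-- The degree classification. -/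
theorem main (hn : 1 ≤ m) (hodd : Odd (Fintype.card F)) :
    Nat.card {χ : IrrCharacter (Sp (m + 1) F) // (χ : Sp (m + 1) F → ℂ) 1 = ((Fintype.card F ^ (m + 1) + 1 : ℕ) : ℂ) / 2} = 2 ∧
    Nat.card {χ : IrrCharacter (Sp (m + 1) F) // (χ : Sp (m + 1) F → ℂ) 1 = ((Fintype.card F ^ (m + 1) - 1 : ℕ) : ℂ) / 2} = 2 ∧
    ∀ χ : IrrCharacter (Sp (m + 1) F), (χ : Sp (m + 1) F → ℂ) 1 ≠ 1 →
      (χ : Sp (m + 1) F → ℂ) 1 ≠ ((Fintype.card F ^ (m + 1) + 1 : ℕ) : ℂ) / 2 →
      (χ : Sp (m + 1) F → ℂ) 1 ≠ ((Fintype.card F ^ (m + 1) - 1 : ℕ) : ℂ) / 2 →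
      ((Fintype.card F ^ (m + 1) - 1 : ℕ) : ℝ) * ((Fintype.card F ^ (m + 1) - Fintype.card F : ℕ) : ℝ) /
        (2 * ((Fintype.card F : ℕ) + 1 : ℝ)) ≤ ‖(χ : Sp (m + 1) F → ℂ) 1‖ := by
  classical
  obtain ⟨ν, hν, hns⟩ := exists_nonsq hodd
  have hq : 3 ≤ Fintype.card F := by
    have : 2 ≤ Fintype.card F := Fintype.one_lt_card
    rcases hodd with ⟨k, hk⟩; omega
  set Q := Fintype.card F ^ (m + 1) with hQ
  have hQ9 : 9 ≤ Q :=
    le_trans (le_of_eq_of_le (by norm_num) (Nat.pow_le_pow_left hq 2)) (Nat.pow_le_pow_right (by omega) (by omega))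
  obtain ⟨hd1, hd2⟩ := finrank_parts (n := m + 1) hodd
  rw [← hQ] at hd2
  set dp := Module.finrank ℂ (part (m + 1) F 1) with hdp
  set dm := Module.finrank ℂ (part (m + 1) F (-1)) with hdm
  have hX : ((Q + 1 : ℕ) : ℂ) / 2 = (dp : ℂ) := by
    rw [div_eq_iff two_ne_zero]; norm_cast; omega
  have hY : ((Q - 1 : ℕ) : ℂ) / 2 = (dm : ℂ) := by
    rw [div_eq_iff two_ne_zero]; norm_cast; omega
  let mk : ∀ s : ℂ, s = 1 ∨ s = -1 → ∀ e : F, e ≠ 0 → IrrCharacter (Sp (m + 1) F) := fun s hs e he =>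
    ⟨(weilTwist hodd s e he).character,
      CfsgLib.Characters.isIrrCharacter_character _ (weilTwist_irreducible hodd hn s hs e he)⟩
  have hall : ∀ χ : IrrCharacter (Sp (m + 1) F), ∀ d : ℕ, (χ : Sp (m + 1) F → ℂ) 1 = d → d ≠ 1 →
      2 * (Fintype.card F + 1) * d < (Q - 1) * (Q - Fintype.card F) →
      ∃ (s : ℂ) (hs : s = 1 ∨ s = -1) (e : F) (he : e ≠ 0), (e = 1 ∨ e = ν) ∧ χ = mk s hs e he ∧ d = Module.finrank ℂ (part (m + 1) F s) := by
    rintro ⟨χ, k, ρ, hρi, rfl⟩ d hd hd' hlt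
    haveI := hρi
    have hk : d = k := by
      have h : (k : ℂ) = d := by
        rw [← hd]
        show _ = ρ.character 1
        rw [Representation.char_one, Module.finrank_fin_fun]
      exact_mod_cast h.symm
    obtain ⟨s, e, he, hs, he', hχ⟩ := classify hodd hn hν hns ρ
      (by rw [Module.finrank_fin_fun, ← hk]; exact hlt) (by rw [Module.finrank_fin_fun, ← hk]; exact hd')
    refine ⟨s, hs, e, he, he', Subtype.ext hχ, ?_⟩
    have := congrFun hχ 1
    rw [character_one_weilTwist] at this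
    have h' : (d : ℂ) = (Module.finrank ℂ (part (m + 1) F s) : ℂ) := hd.symm.trans this
    exact_mod_cast h'
  have hsmall : ∀ d, 2 * d ≤ Q + 1 → 2 * (Fintype.card F + 1) * d < (Q - 1) * (Q - Fintype.card F) :=
    fun d hd => weil_small hodd (by omega) hd
  have hne : ∀ (s : ℂ) (hs : s = 1 ∨ s = -1), mk s hs 1 one_ne_zero ≠ mk s hs ν hν := fun s hs h =>
    weilTwist_ne hodd hn s hs hν hns (congrArg Subtype.val h)
  have count : ∀ (s : ℂ) (hs : s = 1 ∨ s = -1) (d : ℕ), Module.finrank ℂ (part (m + 1) F s) = d → 2 * d ≤ Q + 1 → d ≠ 1 →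
      (∀ s', (s' = 1 ∨ s' = -1) → Module.finrank ℂ (part (m + 1) F s') = d → s' = s) →
      Nat.card {χ : IrrCharacter (Sp (m + 1) F) // (χ : Sp (m + 1) F → ℂ) 1 = (d : ℂ)} = 2 := by
    intro s hs d hd hd2 hd1 huniq
    have hset : {χ : IrrCharacter (Sp (m + 1) F) | (χ : Sp (m + 1) F → ℂ) 1 = (d : ℂ)} =
        {mk s hs 1 one_ne_zero, mk s hs ν hν} := by
      ext χ
      simp only [Set.mem_ofPred_eq, Set.mem_insert_iff, Set.mem_singleton_iff]
      constructor
      · intro h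
        obtain ⟨s', hs', e, he, he', rfl, hd'⟩ := hall χ d h hd1 (hsmall d hd2)
        obtain rfl := huniq s' hs' hd'.symm
        rcases he' with rfl | rfl
        · exact Or.inl rfl
        · exact Or.inr rfl
      · rintro (rfl | rfl) <;> exact (character_one_weilTwist hodd s _ _).trans (by rw [hd])
    calc Nat.card {χ : IrrCharacter (Sp (m + 1) F) // (χ : Sp (m + 1) F → ℂ) 1 = (d : ℂ)}
        = ({χ : IrrCharacter (Sp (m + 1) F) | (χ : Sp (m + 1) F → ℂ) 1 = (d : ℂ)}).ncard :=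
          Nat.card_coe_set_eq _
      _ = 2 := by rw [hset, Set.ncard_pair (hne s hs)]
  rw [hX, hY]
  refine ⟨count 1 (Or.inl rfl) dp rfl (by omega) (by omega) ?_, count (-1) (Or.inr rfl) dm rfl (by omega) (by omega) ?_, ?_⟩
  · rintro s' (rfl | rfl) h
    · rfl
    · exfalso; omega
  · rintro s' (rfl | rfl) h
    · exfalso; omega
    · rfl
  intro χ h1 hp hm
  by_contra hlt
  obtain ⟨d, -, hd⟩ := CfsgLib.Characters.irr_exists_degree χ.2
  rw [hd, Complex.norm_natCast, not_le, lt_div_iff₀ (by positivity)] at hlt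
  have hlt' : 2 * (Fintype.card F + 1) * d < (Q - 1) * (Q - Fintype.card F) := by
    have : ((2 * (Fintype.card F + 1) * d : ℕ) : ℝ) < (((Q - 1) * (Q - Fintype.card F) : ℕ) : ℝ) := by
      push_cast at hlt ⊢
      linarith [hlt]
    exact_mod_cast this
  obtain ⟨s, hs, e, he, -, -, hd'⟩ := hall χ d hd (fun h => h1 (by rw [hd, h, Nat.cast_one])) hlt'
  rcases hs with rfl | rfl
  · exact hp (by rw [hd, hd'])
  · exact hm (by rw [hd, hd'])

end CfsgLib.SpWeilRankOne
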