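import Cfsg.Agent.Lib.SpWeilRankOne.Gens
import Mathlib.LinearAlgebra.Matrix.GeneralLinearGroup.Card
import Mathlib.LinearAlgebra.Basis.VectorSpace

set_option autoImplicit false
set_option linter.unusedSectionVars false
set_option linter.style.haveILetI false
set_option linter.unusedSimpArgs false

/-! Congruence orbits of symmetric matrices of rank at least two. -/

namespace CfsgLib.SpWeilRankOne

open Matrix CfsgLib.SpWeilDeg

variable {F : Type*} [Field F] [Fintype F] [DecidableEq F] {n : ℕ}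

theorem exists_gl_of_li {k : ℕ} {s t : Fin k → Fin n → F} (hs : LinearIndependent F s)
    (ht : LinearIndependent F t) : ∃ A : GL (Fin n) F, ∀ i, (A : Mat n F) *ᵥ s i = t i := by
  classical
  let b1 := Module.Basis.sumExtend hs
  let b2 := Module.Basis.sumExtend ht
  haveI : Fintype (Fin k ⊕ Module.Basis.sumExtendIndex hs) := FiniteDimensional.fintypeBasisIndex b1
  haveI : Fintype (Fin k ⊕ Module.Basis.sumExtendIndex ht) := FiniteDimensional.fintypeBasisIndex b2
  have hb1 : ∀ i, b1 (Sum.inl i) = s i := fun i => by simp [b1, Module.Basis.sumExtend]; rfl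
  have hb2 : ∀ i, b2 (Sum.inl i) = t i := fun i => by simp [b2, Module.Basis.sumExtend]; rfl
  haveI : Fintype (Module.Basis.sumExtendIndex hs) := Fintype.ofFinite _
  haveI : Fintype (Module.Basis.sumExtendIndex ht) := Fintype.ofFinite _
  have hc : Fintype.card (Module.Basis.sumExtendIndex hs) = Fintype.card (Module.Basis.sumExtendIndex ht) := by
    have e1 := Module.finrank_eq_card_basis b1
    have e2 := Module.finrank_eq_card_basis b2
    rw [← Nat.card_eq_fintype_card, Nat.card_sum, Nat.card_eq_fintype_card,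
      Nat.card_eq_fintype_card] at e1 e2
    omega
  let e : ((Fin n → F)) ≃ₗ[F] (Fin n → F) :=
    b1.equiv b2 (Equiv.sumCongr (Equiv.refl _) (Fintype.equivOfCardEq hc))
  refine ⟨⟨LinearMap.toMatrix' e.toLinearMap, LinearMap.toMatrix' e.symm.toLinearMap, ?_, ?_⟩, fun i => ?_⟩
  · rw [← LinearMap.toMatrix'_comp]; simp
  · rw [← LinearMap.toMatrix'_comp]; simp
  · show LinearMap.toMatrix' e.toLinearMap *ᵥ s i = t i
    rw [LinearMap.toMatrix'_mulVec, ← hb1, ← hb2]
    simp [e, Module.Basis.equiv_apply]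

theorem conic_card (h2 : (2 : F) ≠ 0) {a b : F} (ha : a ≠ 0) (hb : b ≠ 0) :
    (Finset.univ.filter fun p : F × F => a * p.1 ^ 2 + b * p.2 ^ 2 = a).card ≤ Fintype.card F + 1 := by
  classical
  refine le_of_le_of_eq (Finset.card_le_card_of_injOn
    (fun p : F × F => if p.1 = 1 then none else some (p.2 / (p.1 - 1))) (t := (Finset.univ : Finset (Option F)))
    (fun p _ => Finset.mem_coe.mpr (Finset.mem_univ _)) ?_) (by simp)
  intro p hp q hq h
  simp only [Finset.coe_filter, Finset.mem_univ, true_and, Set.mem_setOf_eq] at hp hq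
  simp only at h
  split_ifs at h with h1 h3 h3
  · refine Prod.ext (h1.trans h3.symm) ?_
    rw [h1] at hp; rw [h3] at hq
    have e1 : p.2 = 0 := by
      have : b * p.2 ^ 2 = 0 := by linear_combination hp
      simpa [hb] using this
    have e2 : q.2 = 0 := by
      have : b * q.2 ^ 2 = 0 := by linear_combination hq
      simpa [hb] using this
    rw [e1, e2]
  · set k := p.2 / (p.1 - 1) with hk
    have hk' : k = q.2 / (q.1 - 1) := Option.some.inj h
    have ep : p.2 = k * (p.1 - 1) := by rw [hk, div_mul_cancel₀ _ (sub_ne_zero.mpr h1)]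
    have eq' : q.2 = k * (q.1 - 1) := by rw [hk', div_mul_cancel₀ _ (sub_ne_zero.mpr h3)]
    have f1 : a * (p.1 + 1) + b * k ^ 2 * (p.1 - 1) = 0 := by
      refine (mul_eq_zero.mp (?_ : (p.1 - 1) * (a * (p.1 + 1) + b * k ^ 2 * (p.1 - 1)) = 0)).resolve_left
        (sub_ne_zero.mpr h1)
      rw [ep] at hp; linear_combination hp
    have f2 : a * (q.1 + 1) + b * k ^ 2 * (q.1 - 1) = 0 := by
      refine (mul_eq_zero.mp (?_ : (q.1 - 1) * (a * (q.1 + 1) + b * k ^ 2 * (q.1 - 1)) = 0)).resolve_left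
        (sub_ne_zero.mpr h3)
      rw [eq'] at hq; linear_combination hq
    have hne : a + b * k ^ 2 ≠ 0 := by
      intro h0
      have : (2 : F) * a = 0 := by linear_combination f1 - (p.1 - 1) * h0
      exact mul_ne_zero h2 ha this
    have : p.1 = q.1 := by
      have : (p.1 - q.1) * (a + b * k ^ 2) = 0 := by linear_combination f1 - f2
      exact sub_eq_zero.mp ((mul_eq_zero.mp this).resolve_right hne)
    exact Prod.ext this (by rw [ep, eq', this])

theorem binary_isometry_card (h2 : (2 : F) ≠ 0) {a b : F} (ha : a ≠ 0) (hb : b ≠ 0) :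
    (Finset.univ.filter fun p : (F × F) × (F × F) => a * p.1.1 ^ 2 + b * p.1.2 ^ 2 = a ∧
      a * p.1.1 * p.2.1 + b * p.1.2 * p.2.2 = 0 ∧ a * p.2.1 ^ 2 + b * p.2.2 ^ 2 = b).card
      ≤ 2 * (Fintype.card F + 1) := by
  classical
  set S := Finset.univ.filter fun p : (F × F) × (F × F) => a * p.1.1 ^ 2 + b * p.1.2 ^ 2 = a ∧
      a * p.1.1 * p.2.1 + b * p.1.2 * p.2.2 = 0 ∧ a * p.2.1 ^ 2 + b * p.2.2 ^ 2 = b
  have hfib : ∀ c ∈ S.image Prod.fst, (S.filter fun p => p.1 = c).card ≤ 2 := by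
    intro c hc
    obtain ⟨p₀, hp₀, rfl⟩ := Finset.mem_image.mp hc
    refine le_trans (Finset.card_le_card ?_) (Finset.card_le_two (a := p₀) (b := (p₀.1, (-p₀.2.1, -p₀.2.2))))
    intro p hp
    obtain ⟨hpS, hfst⟩ := Finset.mem_filter.mp hp
    obtain ⟨-, e1, e2, e3⟩ := Finset.mem_filter.mp hpS
    obtain ⟨-, f1, f2, f3⟩ := Finset.mem_filter.mp hp₀
    rw [hfst] at e1 e2
    set x := p₀.1.1
    set s := p₀.1.2
    have key : ∀ w : F × F, w = p₀.2 ∨ w = (-p₀.2.1, -p₀.2.2) → p.2 = w →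
        p ∈ ({p₀, (p₀.1, (-p₀.2.1, -p₀.2.2))} : Finset ((F × F) × (F × F))) := by
      rintro w (rfl | rfl) h <;> simp [Prod.ext_iff, hfst, h]
    rcases eq_or_ne x 0 with hx | hx
    · have hs : s ≠ 0 := fun h => ha (by rw [← e1, hx, h]; ring)
      rw [hx] at e2 f2
      have t1 : p.2.2 = 0 := by simpa [hb, hs] using e2
      have t2 : p₀.2.2 = 0 := by simpa [hb, hs] using f2
      rw [t1] at e3; rw [t2] at f3
      have : p.2.1 ^ 2 = p₀.2.1 ^ 2 := mul_left_cancel₀ ha (by linear_combination e3 - f3)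
      rcases sq_eq_sq_iff_eq_or_eq_neg.mp this with h | h
      · exact key p₀.2 (Or.inl rfl) (Prod.ext h (t1.trans t2.symm))
      · exact key _ (Or.inr rfl) (Prod.ext h (by simp [t1, t2]))
    · set k := -(b * s) / (a * x) with hk
      have hax : a * x ≠ 0 := mul_ne_zero ha hx
      have u1 : p.2.1 = k * p.2.2 := by rw [hk]; field_simp; linear_combination e2
      have u2 : p₀.2.1 = k * p₀.2.2 := by rw [hk]; field_simp; linear_combination f2
      rw [u1] at e3; rw [u2] at f3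
      have hne : a * k ^ 2 + b ≠ 0 := fun h => hb (by linear_combination -e3 + p.2.2 ^ 2 * h)
      have : p.2.2 ^ 2 = p₀.2.2 ^ 2 := mul_left_cancel₀ hne (by linear_combination e3 - f3)
      rcases sq_eq_sq_iff_eq_or_eq_neg.mp this with h | h
      · exact key p₀.2 (Or.inl rfl) (Prod.ext (by rw [u1, u2, h]) h)
      · exact key _ (Or.inr rfl) (Prod.ext (by rw [u1, u2, h]; ring) h)
  have h := Finset.card_le_mul_card_image (f := Prod.fst) (s := S) 2 hfib
  refine h.trans (Nat.mul_le_mul_left 2 (le_trans (Finset.card_le_card ?_) (conic_card h2 ha hb)))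
  intro c hc
  obtain ⟨p, hp, rfl⟩ := Finset.mem_image.mp hc
  exact Finset.mem_filter.mpr ⟨Finset.mem_univ _, (Finset.mem_filter.mp hp).2.1⟩

theorem orbit_rank_two (h2 : (2 : F) ≠ 0) (hn : 2 ≤ n) {a b : F} (ha : a ≠ 0) (hb : b ≠ 0)
    {w : Fin 2 → Fin n → F} (hw : LinearIndependent F w) {B : Mat n F}
    (hB : B = a • vecMulVec (w 0) (w 0) + b • vecMulVec (w 1) (w 1)) :
    (Fintype.card F ^ n - 1) * (Fintype.card F ^ n - Fintype.card F) ≤
      2 * (Fintype.card F + 1) * Nat.card (orbit B) := by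
  classical
  haveI : Fintype (orbit B) := Fintype.ofFinite _
  let P := {s : Fin 2 → Fin n → F // LinearIndependent F s}
  haveI : Fintype P := Fintype.ofFinite _
  have hP : Fintype.card P = (Fintype.card F ^ n - 1) * (Fintype.card F ^ n - Fintype.card F) := by
    rw [← Nat.card_eq_fintype_card, _root_.card_linearIndependent (by simpa using hn), Fin.prod_univ_two]
    simp
  have hmem : ∀ s : P, a • vecMulVec (s.1 0) (s.1 0) + b • vecMulVec (s.1 1) (s.1 1) ∈ orbit B := by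
    intro s
    obtain ⟨G, hG⟩ := exists_gl_of_li hw s.2
    refine ⟨⟨(G : Mat n F)ᵀ, ((G⁻¹ : GL (Fin n) F) : Mat n F)ᵀ,
      by rw [← transpose_mul, G.inv_mul, transpose_one], by rw [← transpose_mul, G.mul_inv, transpose_one]⟩, ?_⟩
    show _ = ((G : Mat n F)ᵀ)ᵀ * B * (G : Mat n F)ᵀ
    rw [transpose_transpose, hB, mul_add, add_mul, mul_smul_comm, smul_mul_assoc, mul_smul_comm, smul_mul_assoc,
      mul_vecMulVec, vecMulVec_mul, vecMul_transpose, hG, mul_vecMulVec, vecMulVec_mul, vecMul_transpose, hG]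
  let Φ : P → orbit B := fun s => ⟨_, hmem s⟩
  have hfib : ∀ C ∈ Finset.univ.image Φ, (Finset.univ.filter fun s => Φ s = C).card ≤ 2 * (Fintype.card F + 1) := by
    intro C hC
    obtain ⟨s₀, -, rfl⟩ := Finset.mem_image.mp hC
    -- dual vectors
    have hstd : LinearIndependent F (fun i : Fin 2 => (Pi.single (Fin.castLE hn i) (1 : F) : Fin n → F)) := by
      have := (Pi.basisFun F (Fin n)).linearIndependent.comp (Fin.castLE hn) (Fin.castLE_injective hn)
      simpa [Function.comp_def, Pi.basisFun_apply] using this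
    have dual : ∀ s : P, ∃ z : Fin 2 → Fin n → F, ∀ i j, s.1 i ⬝ᵥ z j = if i = j then 1 else 0 := by
      intro s
      obtain ⟨G, hG⟩ := exists_gl_of_li s.2 hstd
      refine ⟨fun j => (G : Mat n F)ᵀ *ᵥ Pi.single (Fin.castLE hn j) 1, fun i j => ?_⟩
      rw [dotProduct_mulVec, vecMul_transpose, hG, single_one_dotProduct, Pi.single_apply]
      exact if_congr (Fin.castLE_inj) rfl rfl
    obtain ⟨z, hz⟩ := dual s₀
    let coord : P → (F × F) × (F × F) := fun s => ((s.1 0 ⬝ᵥ z 0, s.1 1 ⬝ᵥ z 0), (s.1 0 ⬝ᵥ z 1, s.1 1 ⬝ᵥ z 1))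
    have span : ∀ s, Φ s = Φ s₀ → ∀ i, s.1 i = (s.1 i ⬝ᵥ z 0) • s₀.1 0 + (s.1 i ⬝ᵥ z 1) • s₀.1 1 := by
      intro s hs i
      obtain ⟨z', hz'⟩ := dual s
      have e : a • vecMulVec (s.1 0) (s.1 0) + b • vecMulVec (s.1 1) (s.1 1) =
          a • vecMulVec (s₀.1 0) (s₀.1 0) + b • vecMulVec (s₀.1 1) (s₀.1 1) := congrArg Subtype.val hs
      have eN := congrArg (fun X : Mat n F => X *ᵥ z' i) e
      simp only [add_mulVec, smul_mulVec, vecMulVec_mulVec, hz', op_smul_eq_smul] at eN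
      obtain ⟨x, y, hxy⟩ : ∃ x y : F, s.1 i = x • s₀.1 0 + y • s₀.1 1 := by
        fin_cases i
        · refine ⟨a⁻¹ * (a * (s₀.1 0 ⬝ᵥ z' 0)), a⁻¹ * (b * (s₀.1 1 ⬝ᵥ z' 0)), ?_⟩
          simp only [Fin.zero_eta, if_pos, Fin.one_eq_zero_iff, one_smul, Nat.succ_ne_self, if_false, zero_smul,
            smul_zero, add_zero, smul_smul] at eN
          calc s.1 0 = a⁻¹ • a • s.1 0 := (inv_smul_smul₀ ha _).symm
            _ = _ := by rw [eN, smul_add, smul_smul, smul_smul]
        · refine ⟨b⁻¹ * (a * (s₀.1 0 ⬝ᵥ z' 1)), b⁻¹ * (b * (s₀.1 1 ⬝ᵥ z' 1)), ?_⟩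
          simp only [Fin.mk_one, if_pos, Fin.zero_eq_one_iff, one_smul, Nat.succ_ne_self, if_false, zero_smul,
            smul_zero, zero_add, smul_smul] at eN
          calc s.1 1 = b⁻¹ • b • s.1 1 := (inv_smul_smul₀ hb _).symm
            _ = _ := by rw [eN, smul_add, smul_smul, smul_smul]
      conv_lhs => rw [hxy]
      rw [hxy, add_dotProduct, add_dotProduct, smul_dotProduct, smul_dotProduct, smul_dotProduct, smul_dotProduct,
        hz, hz, hz, hz]
      simp
    refine le_trans (Finset.card_le_card_of_injOn coord ?_ ?_) (binary_isometry_card h2 ha hb)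
    · intro s hs
      have hs' : Φ s = Φ s₀ := (Finset.mem_filter.mp hs).2
      have e : a • vecMulVec (s.1 0) (s.1 0) + b • vecMulVec (s.1 1) (s.1 1) =
          a • vecMulVec (s₀.1 0) (s₀.1 0) + b • vecMulVec (s₀.1 1) (s₀.1 1) := congrArg Subtype.val hs'
      have eq : ∀ i j, a * ((s.1 0 ⬝ᵥ z i) * (s.1 0 ⬝ᵥ z j)) + b * ((s.1 1 ⬝ᵥ z i) * (s.1 1 ⬝ᵥ z j)) =
          a * ((s₀.1 0 ⬝ᵥ z i) * (s₀.1 0 ⬝ᵥ z j)) + b * ((s₀.1 1 ⬝ᵥ z i) * (s₀.1 1 ⬝ᵥ z j)) := fun i j => by
        have := congrArg (fun X : Mat n F => z i ⬝ᵥ (X *ᵥ z j)) e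
        simp only [add_mulVec, smul_mulVec, vecMulVec_mulVec, op_smul_eq_smul, dotProduct_add, dotProduct_smul,
          smul_eq_mul, dotProduct_comm (z i), add_dotProduct, smul_dotProduct] at this
        linear_combination this
      have e00 := eq 0 0
      have e01 := eq 0 1
      have e11 := eq 1 1
      simp [hz] at e00 e01 e11
      refine Finset.mem_coe.mpr (Finset.mem_filter.mpr ⟨Finset.mem_univ _, ?_, ?_, ?_⟩) <;> simp only [coord]
      · linear_combination e00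
      · linear_combination e01
      · linear_combination e11
    · intro s hs t ht h
      simp only [coord, Prod.mk.injEq] at h
      refine Subtype.ext (funext fun i => ?_)
      rw [span s (Finset.mem_filter.mp hs).2 i, span t (Finset.mem_filter.mp ht).2 i]
      obtain ⟨⟨h1, h3⟩, h4, h5⟩ := h
      fin_cases i <;> simp [h1, h3, h4, h5]
  have h := Finset.card_le_mul_card_image (f := Φ) (s := (Finset.univ : Finset P)) _ hfib
  rw [Finset.card_univ, hP] at h
  refine h.trans (Nat.mul_le_mul_left _ ?_)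
  rw [Nat.card_eq_fintype_card]
  exact Finset.card_le_univ _

theorem exists_binary (hodd : Odd (Fintype.card F)) {a d : F} (ha : a ≠ 0) (hd : d ≠ 0) (p : F) :
    ∃ x y : F, a * x ^ 2 + d * y ^ 2 = p := by
  open Polynomial in
  obtain ⟨x, y, hxy⟩ := FiniteField.exists_root_sum_quadratic (R := F) (f := C a * X ^ 2) (g := C d * X ^ 2 - C p)
    (degree_C_mul_X_pow 2 ha) (by
      rw [Polynomial.degree_sub_C (by rw [degree_C_mul_X_pow 2 hd]; norm_num), degree_C_mul_X_pow 2 hd]; norm_num)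
    (by rcases hodd with ⟨k, hk⟩; omega)
  simp only [Polynomial.eval_mul, Polynomial.eval_C, Polynomial.eval_pow, Polynomial.eval_X,
    Polynomial.eval_sub] at hxy
  exact ⟨x, y, by linear_combination hxy⟩

theorem orbit_rank_three {m : ℕ} (hodd : Odd (Fintype.card F)) {B : Mat (m + 2) F} (hB : Bᵀ = B)
    {u v r : Fin (m + 2) → F} {a d e : F} (ha : u ⬝ᵥ (B *ᵥ u) = a) (hd : v ⬝ᵥ (B *ᵥ v) = d) (he : r ⬝ᵥ (B *ᵥ r) = e)
    (huv : u ⬝ᵥ (B *ᵥ v) = 0) (hur : u ⬝ᵥ (B *ᵥ r) = 0) (hvr : v ⬝ᵥ (B *ᵥ r) = 0) (ha0 : a ≠ 0) (hd0 : d ≠ 0)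
    (he0 : e ≠ 0) :
    (Fintype.card F - 1) ^ 2 * Fintype.card F * (Fintype.card F ^ m) ^ 2 ≤ Nat.card (orbit B) := by
  classical
  let X := (({p : F // p ≠ 0} × {s : F // s ≠ 0}) × F) × ((Fin m → F) × (Fin m → F))
  have col : ∀ x : X, ∃ C : orbit B, (C.1 0 0 = x.1.1.1.1 ∧ C.1 1 0 = x.1.2 ∧ ∀ k : Fin m, C.1 k.succ.succ 0 = x.2.1 k) ∧
      (C.1 1 1 = x.1.1.2.1 + x.1.2 ^ 2 / x.1.1.1.1 ∧ ∀ k : Fin m, C.1 k.succ.succ 1 = x.2.2 k) := by
    rintro ⟨⟨⟨⟨p, hp⟩, ⟨s, hs⟩⟩, q⟩, g0, g1⟩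
    dsimp only
    obtain ⟨x, y, hxy⟩ := exists_binary hodd ha0 hd0 p
    obtain ⟨α, β, hαβ⟩ := exists_binary hodd he0 (d := a * d * p) (mul_ne_zero (mul_ne_zero ha0 hd0) hp) s
    set w0 : Fin (m + 2) → F := x • u + y • v
    set t : Fin (m + 2) → F := (-(d * y)) • u + (a * x) • v
    set w1 : Fin (m + 2) → F := (q / p) • w0 + α • r + β • t
    have hvu : v ⬝ᵥ (B *ᵥ u) = 0 := by rw [symm_dot hB]; exact huv
    have hru : r ⬝ᵥ (B *ᵥ u) = 0 := by rw [symm_dot hB]; exact hur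
    have hrv : r ⬝ᵥ (B *ᵥ v) = 0 := by rw [symm_dot hB]; exact hvr
    have G00 : w0 ⬝ᵥ (B *ᵥ w0) = p := by
      simp only [w0, mulVec_add, mulVec_smul, add_dotProduct, dotProduct_add, smul_dotProduct, dotProduct_smul,
        smul_eq_mul, ha, hd, huv, hvu]
      linear_combination hxy
    have G0t : w0 ⬝ᵥ (B *ᵥ t) = 0 := by
      simp only [w0, t, mulVec_add, mulVec_smul, add_dotProduct, dotProduct_add, smul_dotProduct, dotProduct_smul,
        smul_eq_mul, ha, hd, huv, hvu]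
      ring
    have G01 : w0 ⬝ᵥ (B *ᵥ w1) = q := by
      have h3 : w0 ⬝ᵥ (B *ᵥ r) = 0 := by
        simp only [w0, add_dotProduct, smul_dotProduct, smul_eq_mul, hur, hvr]; ring
      simp only [w1, mulVec_add, mulVec_smul, dotProduct_add, dotProduct_smul, smul_eq_mul, G00, h3, G0t]
      field_simp
      ring
    have G11 : w1 ⬝ᵥ (B *ᵥ w1) = s + q ^ 2 / p := by
      simp only [w1, w0, t, mulVec_add, mulVec_smul, mulVec_neg, add_dotProduct, dotProduct_add, smul_dotProduct,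
        dotProduct_smul, smul_eq_mul, ha, hd, he, huv, hvu, hur, hru, hvr, hrv]
      rw [← hαβ]
      field_simp
      linear_combination (q ^ 2 + β ^ 2 * a * d * p ^ 2) * hxy
    have hli : LinearIndependent F ![w0, w1] := by
      refine LinearIndependent.pair_iff.mpr fun c c' h => ?_
      have e1 := congrArg (fun z => w0 ⬝ᵥ (B *ᵥ z)) h
      have e2 := congrArg (fun z => w1 ⬝ᵥ (B *ᵥ z)) h
      simp only [mulVec_add, mulVec_smul, dotProduct_add, dotProduct_smul, smul_eq_mul, G00, G01, G11,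
        symm_dot hB w1 w0, mulVec_zero, dotProduct_zero] at e1 e2
      have hc' : c' = 0 := by
        have : c' * (s * p) = 0 := by field_simp at e2; linear_combination e2 - q * e1
        simpa [hs, hp] using this
      subst hc'
      exact ⟨by simpa [hp] using e1, rfl⟩
    have hstd : LinearIndependent F ![(Pi.single 0 1 : Fin (m + 2) → F), Pi.single 1 1] := by
      refine LinearIndependent.pair_iff.mpr fun c c' h => ⟨?_, ?_⟩
      · simpa using congrFun h 0
      · simpa using congrFun h 1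
    obtain ⟨Q, hQ⟩ := exists_gl_of_li hstd hli
    have hQ0 : (Q : Mat (m + 2) F) *ᵥ Pi.single 0 1 = w0 := hQ 0
    have hQ1 : (Q : Mat (m + 2) F) *ᵥ Pi.single 1 1 = w1 := hQ 1
    set C' := (Q : Mat (m + 2) F)ᵀ * B * (Q : Mat (m + 2) F) with hC'
    have ent : ∀ i j, C' i j = ((Q : Mat (m + 2) F) *ᵥ Pi.single i 1) ⬝ᵥ (B *ᵥ ((Q : Mat (m + 2) F) *ᵥ Pi.single j 1)) := by
      intro i j
      conv_rhs => rw [dotProduct_comm, dotProduct_mulVec, ← mulVec_transpose, mulVec_mulVec, mulVec_mulVec]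
      simp [hC', mul_assoc]
    have T00 : C' 0 0 = p := by rw [ent, hQ0, G00]
    have T10 : C' 1 0 = q := by rw [ent, hQ0, hQ1, symm_dot hB, G01]
    have T01 : C' 0 1 = q := by rw [ent, hQ0, hQ1, G01]
    have T11 : C' 1 1 = s + q ^ 2 / p := by rw [ent, hQ1, G11]
    set s1 := s + q ^ 2 / p with hs1
    set dd := p * s1 - q * q with hdd
    have hdd0 : dd ≠ 0 := by
      have : dd = p * s := by rw [hdd, hs1]; field_simp; ring
      rw [this]; exact mul_ne_zero hp hs
    let x0 : Fin (m + 2) → F := Fin.cons 0 (Fin.cons 0 fun k =>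
      (s1 * (g0 k - C' k.succ.succ 0) - q * (g1 k - C' k.succ.succ 1)) / dd)
    let x1 : Fin (m + 2) → F := Fin.cons 0 (Fin.cons 0 fun k =>
      (p * (g1 k - C' k.succ.succ 1) - q * (g0 k - C' k.succ.succ 0)) / dd)
    have z00 : x0 0 = 0 := rfl
    have z01 : x0 1 = 0 := rfl
    have z10 : x1 0 = 0 := rfl
    have z11 : x1 1 = 0 := rfl
    set N : Mat (m + 2) F := vecMulVec (Pi.single 0 1) x0 + vecMulVec (Pi.single 1 1) x1 with hN
    have hNN : N * N = 0 := by
      rw [hN]; simp [mul_add, add_mul, vecMulVec_mul_vecMulVec, z00, z01, z10, z11]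
    let R : GL (Fin (m + 2)) F := ⟨1 + N, 1 - N, by simp [mul_sub, add_mul, hNN], by simp [mul_add, sub_mul, hNN]⟩
    refine ⟨⟨_, Q * R, rfl⟩, ?_⟩
    have entry : ∀ i j, (j = 0 ∨ j = 1) →
        (((Q * R : GL (Fin (m + 2)) F) : Mat (m + 2) F)ᵀ * B * ((Q * R : GL (Fin (m + 2)) F) : Mat (m + 2) F)) i j =
          C' i j + x0 i * C' 0 j + x1 i * C' 1 j := by
      intro i j hj
      have hNj : ∀ k, N k j = 0 := fun k => by
        rcases hj with rfl | rfl <;> simp [hN, vecMulVec_apply, z00, z01, z10, z11]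
      show ((((Q : Mat (m + 2) F) * (1 + N))ᵀ * B * ((Q : Mat (m + 2) F) * (1 + N)) : Mat (m + 2) F)) i j = _
      have e : (((Q : Mat (m + 2) F) * (1 + N)))ᵀ * B * ((Q : Mat (m + 2) F) * (1 + N)) =
          C' + Nᵀ * C' + (C' + Nᵀ * C') * N := by
        rw [hC', transpose_mul, transpose_add, transpose_one]
        noncomm_ring
      rw [e, Matrix.add_apply, Matrix.add_apply]
      have z : ((C' + Nᵀ * C') * N) i j = 0 := by
        rw [Matrix.mul_apply]; exact Finset.sum_eq_zero fun k _ => by rw [hNj, mul_zero]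
      have z' : (Nᵀ * C') i j = x0 i * C' 0 j + x1 i * C' 1 j := by
        rw [hN, transpose_add, transpose_vecMulVec, transpose_vecMulVec, add_mul, vecMulVec_mul, vecMulVec_mul]
        simp [vecMulVec_apply]
      rw [z, z']
      ring
    refine ⟨⟨?_, ?_, fun k => ?_⟩, ?_, fun k => ?_⟩ <;>
      refine (entry _ _ (by simp)).trans ?_
    · rw [z00, z10, T00]; ring
    · rw [z01, z11, T10]; ring
    · rw [T00, T10]; simp only [x0, x1, Fin.cons_succ]; field_simp; rw [hdd]; ring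
    · rw [z01, z11, T11]; ring
    · rw [T01, T11]; simp only [x0, x1, Fin.cons_succ]; field_simp; rw [hdd]; ring
  choose Φ hΦ using col
  have hinj : Function.Injective Φ := by
    rintro ⟨⟨⟨p, s⟩, q⟩, g0, g1⟩ ⟨⟨⟨p', s'⟩, q'⟩, g0', g1'⟩ h
    obtain ⟨⟨a1, a2, a3⟩, a4, a5⟩ := hΦ ⟨⟨⟨p, s⟩, q⟩, g0, g1⟩
    obtain ⟨⟨b1, b2, b3⟩, b4, b5⟩ := hΦ ⟨⟨⟨p', s'⟩, q'⟩, g0', g1'⟩
    rw [h] at a1 a2 a4
    dsimp only at a1 a2 a4 b1 b2 b4
    have ep : p = p' := Subtype.ext (a1.symm.trans b1)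
    have eq' : q = q' := a2.symm.trans b2
    subst ep eq'
    have es : s = s' := Subtype.ext (by linear_combination b4 - a4)
    subst es
    have e0 : g0 = g0' := funext fun k => by have := a3 k; rw [h] at this; exact this.symm.trans (b3 k)
    have e1 : g1 = g1' := funext fun k => by have := a5 k; rw [h] at this; exact this.symm.trans (b5 k)
    rw [e0, e1]
  refine le_of_eq_of_le ?_ (Nat.card_le_card_of_injective Φ hinj)
  simp [X, Nat.card_eq_fintype_card, Fintype.card_subtype_compl]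
  ring

theorem orbit_bound (hodd : Odd (Fintype.card F)) (hn : 2 ≤ n) {B : Mat n F} (hB : Bᵀ = B)
    (hminor : ¬∀ i j k l, B i j * B k l = B i l * B k j) :
    (Fintype.card F ^ n - 1) * (Fintype.card F ^ n - Fintype.card F) ≤
      2 * (Fintype.card F + 1) * Nat.card (orbit B) := by
  have h2 : (2 : F) ≠ 0 := two_ne hodd
  have hB0 : B ≠ 0 := fun h => hminor fun i j k l => by simp [h]
  obtain ⟨v, hv⟩ := exists_anisotropic h2 hB hB0
  set a := v ⬝ᵥ (B *ᵥ v) with ha
  set w := B *ᵥ v with hw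
  set D := B - a⁻¹ • vecMulVec w w with hD
  have hDs : Dᵀ = D := by rw [hD, transpose_sub, transpose_smul, hB, transpose_vecMulVec]
  by_cases hD0 : D = 0
  · exfalso
    refine hminor fun i j k l => ?_
    rw [sub_eq_zero.mp hD0]
    simp [vecMulVec_apply]
    ring
  obtain ⟨u, hu⟩ := exists_anisotropic h2 hDs hD0
  set u' := u - ((u ⬝ᵥ w) / a) • v with hu'
  have huw : u' ⬝ᵥ w = 0 := by
    rw [hu', sub_dotProduct, smul_dotProduct, ← ha, smul_eq_mul, div_mul_cancel₀ _ hv, sub_self]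
  set d := u' ⬝ᵥ (B *ᵥ u') with hd
  have hd0 : d ≠ 0 := by
    have : d = u ⬝ᵥ (D *ᵥ u) := by
      rw [hd, hD, sub_mulVec, smul_mulVec, vecMulVec_mulVec, hu']
      simp only [mulVec_sub, mulVec_smul, sub_dotProduct, dotProduct_sub, smul_dotProduct, dotProduct_smul,
        smul_eq_mul, MulOpposite.smul_eq_mul_unop, MulOpposite.unop_op, ← hw, ← ha]
      rw [symm_dot hB v u, ← hw, dotProduct_comm w u]
      field_simp
      ring
    rw [this]; exact hu
  set w' := B *ᵥ u' with hw'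
  have hvw' : v ⬝ᵥ w' = 0 := by rw [hw', symm_dot hB, ← hw, huw]
  set D2 := D - d⁻¹ • vecMulVec w' w' with hD2
  by_cases hD20 : D2 = 0
  · refine orbit_rank_two h2 hn (inv_ne_zero hv) (inv_ne_zero hd0) (w := ![w, w']) ?_ ?_
    · refine LinearIndependent.pair_iff.mpr fun c c' h => ?_
      have e1 := congrArg (fun z => v ⬝ᵥ z) h
      have e2 := congrArg (fun z => u' ⬝ᵥ z) h
      simp only [dotProduct_add, dotProduct_smul, smul_eq_mul, hvw', huw, ← ha, ← hd, dotProduct_zero, mul_zero,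
        add_zero, zero_add] at e1 e2
      exact ⟨(mul_eq_zero.mp e1).resolve_right hv, (mul_eq_zero.mp e2).resolve_right hd0⟩
    · have := sub_eq_zero.mp hD20
      rw [hD, sub_eq_iff_eq_add] at this
      simpa [add_comm] using this
  have hD2s : D2ᵀ = D2 := by rw [hD2, transpose_sub, transpose_smul, hDs, transpose_vecMulVec]
  obtain ⟨y, hy⟩ := exists_anisotropic h2 hD2s hD20
  set y' := y - ((y ⬝ᵥ w) / a) • v - ((y ⬝ᵥ w') / d) • u' with hy'
  have hyw : y' ⬝ᵥ w = 0 := by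
    rw [hy', sub_dotProduct, sub_dotProduct, smul_dotProduct, smul_dotProduct, huw, ← ha, smul_eq_mul,
      div_mul_cancel₀ _ hv]
    simp
  have hyw' : y' ⬝ᵥ w' = 0 := by
    rw [hy', sub_dotProduct, sub_dotProduct, smul_dotProduct, smul_dotProduct, hvw', ← hd, smul_eq_mul, smul_eq_mul,
      div_mul_cancel₀ _ hd0]
    simp
  have hye : y' ⬝ᵥ (B *ᵥ y') = y ⬝ᵥ (D2 *ᵥ y) := by
    have e1 : y' ⬝ᵥ (B *ᵥ y') = y' ⬝ᵥ (B *ᵥ y) := by
      conv_lhs => arg 2; rw [hy', mulVec_sub, mulVec_sub, mulVec_smul, mulVec_smul, ← hw, ← hw']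
      simp [dotProduct_sub, hyw, hyw']
    have hvy : v ⬝ᵥ (B *ᵥ y) = y ⬝ᵥ w := by rw [symm_dot hB, ← hw]
    have huy : u' ⬝ᵥ (B *ᵥ y) = y ⬝ᵥ w' := by rw [symm_dot hB, ← hw']
    rw [e1, hD2, hD, sub_mulVec, sub_mulVec, smul_mulVec, smul_mulVec, vecMulVec_mulVec, vecMulVec_mulVec, hy']
    simp only [sub_dotProduct, dotProduct_sub, smul_dotProduct, dotProduct_smul, smul_eq_mul,
      MulOpposite.smul_eq_mul_unop, MulOpposite.unop_op, hvy, huy, dotProduct_comm w y, dotProduct_comm w' y]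
    field_simp
  obtain ⟨m, rfl⟩ : ∃ m, n = m + 2 := ⟨n - 2, by omega⟩
  have h3 := orbit_rank_three hodd hB (u := v) (v := u') (r := y') rfl rfl rfl
    (by rw [symm_dot hB, ← hw, huw]) (by rw [symm_dot hB, ← hw, hyw]) (by rw [symm_dot hB, ← hw', hyw']) hv hd0
    (by rw [hye]; exact hy)
  refine le_trans ?_ (Nat.mul_le_mul_left _ h3)
  obtain ⟨r, hr⟩ : ∃ r, Fintype.card F = r + 3 := ⟨Fintype.card F - 3, by
    have : 2 ≤ Fintype.card F := Fintype.one_lt_card
    rcases hodd with ⟨k, hk⟩; omega⟩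
  rw [hr, show r + 3 - 1 = r + 2 by omega]
  calc ((r + 3) ^ (m + 2) - 1) * ((r + 3) ^ (m + 2) - (r + 3))
      ≤ (r + 3) ^ (m + 2) * (r + 3) ^ (m + 2) := Nat.mul_le_mul (Nat.sub_le _ _) (Nat.sub_le _ _)
    _ = ((r + 3) ^ 3) * ((r + 3) * ((r + 3) ^ m) ^ 2) := by ring
    _ ≤ (2 * (r + 3 + 1) * (r + 2) ^ 2) * ((r + 3) * ((r + 3) ^ m) ^ 2) := Nat.mul_le_mul_right _ (by nlinarith)
    _ = _ := by ring

end CfsgLib.SpWeilRankOne
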