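import Cfsg.Agent.Lib.SpWeilRankOne.Gens
import Cfsg.Agent.Lib.Characters.Basic

set_option autoImplicit false
set_option linter.unusedSectionVars false
set_option linter.style.haveILetI false

/-! Spectral projections of the Siegel unipotent group. -/

namespace CfsgLib.SpWeilRankOne

open Matrix CfsgLib.SpWeilDeg CfsgLib.KnownSimple.ModulePerm

variable {F : Type*} [Field F] [Fintype F] [DecidableEq F] {n : ℕ}

/-- The additive character of matrices attached to `B`. -/
noncomputable def phi (B : Mat n F) : AddChar (Mat n F) ℂ :=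
  (chi F).compAddMonoidHom (AddMonoidHom.mk' (fun M => (Bᵀ * M).trace) fun M N => by rw [mul_add, trace_add])

theorem phi_apply (B M : Mat n F) : phi B M = chi F (Bᵀ * M).trace := rfl

theorem phi_ne_zero (B M : Mat n F) : phi B M ≠ 0 := (AddChar.val_isUnit _ _).ne_zero

theorem phi_add_left (B B' M : Mat n F) : phi (B + B') M = phi B M * phi B' M := by
  rw [phi_apply, phi_apply, phi_apply, transpose_add, add_mul, trace_add, AddChar.map_add_eq_mul]

theorem tr_single_mul (i j : Fin n) (x : F) (M : Mat n F) : ((Matrix.single i j x)ᵀ * M).trace = x * M i j := by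
  rw [transpose_single, Matrix.trace_single_mul, smul_eq_mul]

theorem phi_eq_zero_iff (B : Mat n F) : phi B = 0 ↔ B = 0 := by
  constructor
  · intro h
    by_contra hB
    obtain ⟨i, j, hij⟩ : ∃ i j, B i j ≠ 0 := by
      by_contra hc
      push Not at hc
      exact hB (Matrix.ext hc)
    obtain ⟨x, hx⟩ := (exists_char F).choose_spec _ hij
    have := DFunLike.congr_fun h (Matrix.single i j x)
    rw [phi_apply, AddChar.zero_apply, Matrix.trace_mul_single, transpose_apply] at this
    exact hx this
  · rintro rfl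
    ext M
    simp [phi_apply]

/-- The left argument as an additive character. -/
noncomputable def phiLeft (M : Mat n F) : AddChar (Mat n F) ℂ where
  toFun B := phi B M
  map_zero_eq_one' := by simp [phi_apply]
  map_add_eq_mul' B B' := phi_add_left B B' M

theorem sum_phi_left (M : Mat n F) :
    ∑ B : Mat n F, phi B M = if M = 0 then (Fintype.card (Mat n F) : ℂ) else 0 := by
  classical
  refine (AddChar.sum_eq_ite (phiLeft M)).trans ?_
  refine if_congr ⟨fun h0 => ?_, fun h0 => ?_⟩ rfl rfl
  · by_contra hM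
    obtain ⟨i, j, hij⟩ : ∃ i j, M i j ≠ 0 := by
      by_contra hc
      push Not at hc
      exact hM (Matrix.ext hc)
    obtain ⟨x, hx⟩ := (exists_char F).choose_spec _ hij
    have := DFunLike.congr_fun h0 (Matrix.single i j x)
    rw [AddChar.zero_apply] at this
    have h1 : phi (Matrix.single i j x) M = 1 := this
    rw [phi_apply, tr_single_mul, mul_comm x] at h1
    exact hx h1
  · subst h0
    ext B
    show phi B 0 = 1
    exact AddChar.map_zero_eq_one _

theorem sum_phi_right (B : Mat n F) :
    ∑ M : Mat n F, phi B M = if B = 0 then (Fintype.card (Mat n F) : ℂ) else 0 := by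
  classical
  rw [AddChar.sum_eq_ite]
  exact if_congr (phi_eq_zero_iff B) rfl rfl

variable {U : Type*} [AddCommGroup U] [Module ℂ U] (ρ : Representation ℂ (Sp n F) U)

/-- The projection on the `B`-eigenspace of the Siegel unipotent group. -/
noncomputable def piB (B : Mat n F) : Module.End ℂ U :=
  (Fintype.card (Mat n F) : ℂ)⁻¹ • ∑ M : Mat n F, phi B (-M) • ρ (siegel M)

theorem card_ne_zero : (Fintype.card (Mat n F) : ℂ) ≠ 0 := Nat.cast_ne_zero.mpr Fintype.card_ne_zero

theorem siegel_mul_piB (M : Mat n F) (B : Mat n F) : ρ (siegel M) * piB ρ B = phi B M • piB ρ B := by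
  rw [piB, mul_smul_comm, Finset.mul_sum, smul_comm (phi B M)]
  congr 1
  rw [Finset.smul_sum]
  refine Fintype.sum_equiv (Equiv.addLeft M) _ _ fun N => ?_
  rw [mul_smul_comm, ← map_mul, siegel_mul, smul_smul, ← AddChar.map_add_eq_mul]
  congr 2
  simp

theorem piB_mul_siegel (M : Mat n F) (B : Mat n F) : piB ρ B * ρ (siegel M) = phi B M • piB ρ B := by
  rw [← siegel_mul_piB]
  have hc : ∀ N : Mat n F, ρ (siegel N) * ρ (siegel M) = ρ (siegel M) * ρ (siegel N) := fun N => by
    rw [← map_mul, ← map_mul, siegel_mul, siegel_mul, add_comm]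
  rw [piB, smul_mul_assoc, Finset.sum_mul, mul_smul_comm, Finset.mul_sum]
  refine congrArg _ (Finset.sum_congr rfl fun N _ => ?_)
  rw [smul_mul_assoc, hc, mul_smul_comm]

theorem piB_mul (B B' : Mat n F) : piB ρ B * piB ρ B' = if B = B' then piB ρ B' else 0 := by
  classical
  conv_lhs => rw [piB, smul_mul_assoc, Finset.sum_mul]
  simp only [smul_mul_assoc, siegel_mul_piB, smul_smul]
  rw [← Finset.sum_smul]
  have h : ∀ M, phi B (-M) * phi B' M = phi (B' - B) M := fun M => by
    rw [phi_apply, phi_apply, phi_apply, ← AddChar.map_add_eq_mul]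
    congr 1
    simp [sub_mul, transpose_sub]
    abel
  rw [Finset.sum_congr rfl fun M _ => h M, sum_phi_right, smul_smul]
  rcases eq_or_ne B B' with rfl | hne
  · rw [sub_self, if_pos rfl, if_pos rfl, inv_mul_cancel₀ card_ne_zero, one_smul]
  · rw [if_neg (sub_ne_zero.mpr hne.symm), if_neg hne, mul_zero, zero_smul]

theorem piB_self (B : Mat n F) : piB ρ B * piB ρ B = piB ρ B := by
  classical
  rw [piB_mul, if_pos rfl]

theorem piB_orth {B B' : Mat n F} (h : B ≠ B') : piB ρ B * piB ρ B' = 0 := by
  classical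
  rw [piB_mul, if_neg h]

theorem sum_piB : ∑ B : Mat n F, piB ρ B = 1 := by
  classical
  simp only [piB]
  rw [← Finset.smul_sum, Finset.sum_comm]
  simp only [← Finset.sum_smul, sum_phi_left, neg_eq_zero, ite_smul, zero_smul]
  rw [Finset.sum_ite_eq' Finset.univ (0 : Mat n F), if_pos (Finset.mem_univ _), siegel_zero, map_one, smul_smul,
    inv_mul_cancel₀ card_ne_zero, one_smul]

theorem piB_transpose (B : Mat n F) : piB ρ Bᵀ = piB ρ B := by
  simp only [piB]
  congr 1
  refine Fintype.sum_equiv (transposeAddEquiv (Fin n) (Fin n) F).toEquiv _ _ fun M => ?_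
  show phi Bᵀ (-M) • ρ (siegel M) = phi B (-Mᵀ) • ρ (siegel Mᵀ)
  rw [siegel_transpose, phi_apply, phi_apply, transpose_transpose, ← trace_transpose (B * -M), transpose_mul,
    transpose_neg, trace_mul_comm]

theorem symm_of_piB_ne_zero {B : Mat n F} (h : piB ρ B ≠ 0) : Bᵀ = B := by
  by_contra hne
  apply h
  rw [← piB_self ρ B]
  nth_rewrite 1 [← piB_transpose ρ B]
  exact piB_orth ρ hne

/-- The action of a Levi element on forms. -/
noncomputable def act (A : GL (Fin n) F) (B : Mat n F) : Mat n F :=
  ((A⁻¹ : GL (Fin n) F) : Mat n F)ᵀ * B * ((A⁻¹ : GL (Fin n) F) : Mat n F)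

theorem act_mul (A A' : GL (Fin n) F) (B : Mat n F) : act (A * A') B = act A (act A' B) := by
  simp [act, Matrix.transpose_mul, mul_assoc]

theorem act_one (B : Mat n F) : act (1 : GL (Fin n) F) B = B := by simp [act]

theorem act_inv (A : GL (Fin n) F) (B : Mat n F) :
    act A⁻¹ B = (A : Mat n F)ᵀ * B * (A : Mat n F) := by simp [act]

theorem act_inv_act (A : GL (Fin n) F) (B : Mat n F) : act A⁻¹ (act A B) = B := by
  rw [← act_mul, inv_mul_cancel, act_one]

theorem act_ne_zero (A : GL (Fin n) F) {B : Mat n F} (h : B ≠ 0) : act A B ≠ 0 := fun h0 => h (by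
  rw [← act_inv_act A B, h0]; simp [act])

theorem levi_mul_piB (A : GL (Fin n) F) (B : Mat n F) :
    ρ (levi A) * piB ρ B = piB ρ (act A B) * ρ (levi A) := by
  simp only [piB, mul_smul_comm, smul_mul_assoc, Finset.mul_sum, Finset.sum_mul]
  congr 1
  let e : Mat n F ≃ Mat n F :=
    { toFun := fun M => (A : Mat n F) * M * (A : Mat n F)ᵀ
      invFun := fun M => ((A⁻¹ : GL (Fin n) F) : Mat n F) * M * ((A⁻¹ : GL (Fin n) F) : Mat n F)ᵀ
      left_inv := fun M => by
        have h : ((A⁻¹ : GL (Fin n) F) : Mat n F) * (A : Mat n F) = 1 := A.inv_mul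
        calc _ = (((A⁻¹ : GL (Fin n) F) : Mat n F) * (A : Mat n F)) * M * (((A⁻¹ : GL (Fin n) F) : Mat n F) * (A : Mat n F))ᵀ := by
              simp only [Matrix.transpose_mul, mul_assoc]
          _ = M := by rw [h, one_mul, transpose_one, mul_one]
      right_inv := fun M => by
        have h : (A : Mat n F) * ((A⁻¹ : GL (Fin n) F) : Mat n F) = 1 := A.mul_inv
        calc _ = ((A : Mat n F) * ((A⁻¹ : GL (Fin n) F) : Mat n F)) * M * ((A : Mat n F) * ((A⁻¹ : GL (Fin n) F) : Mat n F))ᵀ := by
              simp only [Matrix.transpose_mul, mul_assoc]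
          _ = M := by rw [h, one_mul, transpose_one, mul_one] }
  refine Fintype.sum_equiv e _ _ fun M => ?_
  rw [← map_mul, ← map_mul, levi_mul_siegel]
  congr 1
  show phi B (-M) = phi (act A B) (-((A : Mat n F) * M * (A : Mat n F)ᵀ))
  rw [phi_apply, phi_apply]
  congr 1
  have h : ((A⁻¹ : GL (Fin n) F) : Mat n F) * (A : Mat n F) = 1 := A.inv_mul
  calc (Bᵀ * -M).trace = (Bᵀ * ((((A⁻¹ : GL (Fin n) F) : Mat n F) * (A : Mat n F)) * -M *
        (((A⁻¹ : GL (Fin n) F) : Mat n F) * (A : Mat n F))ᵀ)).trace := by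
        rw [h, one_mul, transpose_one, mul_one]
    _ = _ := by
        simp only [act, Matrix.transpose_mul, transpose_transpose, mul_assoc, mul_neg, neg_mul, trace_neg]
        rw [trace_mul_comm (((A⁻¹ : GL (Fin n) F) : Mat n F)ᵀ)]
        simp only [mul_assoc]

theorem piB_ne_zero_act (A : GL (Fin n) F) {B : Mat n F} (h : piB ρ B ≠ 0) : piB ρ (act A B) ≠ 0 := by
  intro h0
  apply h
  have := levi_mul_piB ρ A B
  rw [h0, zero_mul] at this
  calc piB ρ B = ρ (levi A⁻¹ * levi A) * piB ρ B := by rw [← levi_mul, inv_mul_cancel, levi_one, map_one, one_mul]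
    _ = 0 := by rw [map_mul, mul_assoc, this, mul_zero]

/-- An operator commutes with the Siegel group if it commutes with every projection. -/
theorem commute_siegel_of_piB {f : Module.End ℂ U} (h : ∀ B, Commute (piB ρ B) f) (M : Mat n F) :
    Commute (ρ (siegel M)) f := by
  classical
  show _ = _
  calc ρ (siegel M) * f = ∑ B : Mat n F, ρ (siegel M) * piB ρ B * f := by
        rw [← Finset.sum_mul, ← Finset.mul_sum, sum_piB, mul_one]
    _ = ∑ B : Mat n F, f * (piB ρ B * ρ (siegel M)) := Finset.sum_congr rfl fun B _ => by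
        rw [siegel_mul_piB, smul_mul_assoc, (h B).eq, piB_mul_siegel, mul_smul_comm]
    _ = f * ρ (siegel M) := by rw [← Finset.mul_sum, ← Finset.sum_mul, sum_piB, one_mul]

theorem piB_commute_of_siegel {f : Module.End ℂ U} (h : ∀ M, Commute (ρ (siegel M)) f) (B : Mat n F) :
    Commute (piB ρ B) f := by
  refine Commute.smul_left (Commute.sum_left _ _ _ fun M _ => ?_) _
  exact (h M).smul_left _

end CfsgLib.SpWeilRankOne
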