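import Cfsg.Agent.Lib.SpWeilRankOne.Comm
import Cfsg.Agent.Lib.Characters.Decomp

set_option autoImplicit false
set_option linter.unusedSectionVars false
set_option linter.style.haveILetI false
set_option linter.unusedSimpArgs false

/-! An irreducible rank-one representation is determined by one eigenvalue class and the centre. -/

namespace CfsgLib.SpWeilRankOne

open Matrix CfsgLib.SpWeilDeg

variable {F : Type*} [Field F] [Fintype F] [DecidableEq F] {m : ℕ}
variable {V W : Type*} [AddCommGroup V] [Module ℂ V] [AddCommGroup W] [Module ℂ W]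

theorem piB_prod (ρV : Representation ℂ (Sp (m + 1) F) V) (ρW : Representation ℂ (Sp (m + 1) F) W)
    (B : Mat (m + 1) F) (x : V × W) : piB (ρV.prod ρW) B x = (piB ρV B x.1, piB ρW B x.2) := by
  simp [piB, LinearMap.sum_apply, Prod.ext_iff, Prod.fst_sum, Prod.snd_sum]

theorem rankLE1_prod {ρV : Representation ℂ (Sp (m + 1) F) V} {ρW : Representation ℂ (Sp (m + 1) F) W}
    (hV : RankLE1 ρV) (hW : RankLE1 ρW) : RankLE1 (ρV.prod ρW) := by
  intro B hB
  by_cases h : piB ρV B = 0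
  · refine hW B fun h' => hB (LinearMap.ext fun x => ?_)
    rw [piB_prod, h, h']
    simp
  · exact hV B h

/-- Averaging of a corner operator over the Levi subgroup. -/
noncomputable def leviAvg {U : Type*} [AddCommGroup U] [Module ℂ U] (ρ : Representation ℂ (Sp (m + 1) F) U)
    (f : Module.End ℂ U) : Module.End ℂ U :=
  ∑ A : GL (Fin (m + 1)) F, ρ (levi A) * f * ρ (levi A)⁻¹

variable {U : Type*} [AddCommGroup U] [Module ℂ U] {ρ : Representation ℂ (Sp (m + 1) F) U}

theorem leviAvg_pequiv {f : Module.End ℂ U} (hf : ∀ M, Commute (ρ (siegel M)) f) : PEquiv ρ (leviAvg ρ f) := by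
  refine ⟨fun M => Commute.sum_right _ _ _ fun A _ => conj_levi_commute_siegel ρ hf A M, fun A => ?_⟩
  show _ = _
  rw [leviAvg, Finset.mul_sum, Finset.sum_mul]
  refine Fintype.sum_equiv (Equiv.mulLeft A) _ _ fun C => ?_
  show _ = ρ (levi (A * C)) * f * ρ (levi (A * C))⁻¹ * ρ (levi A)
  rw [levi_mul, _root_.mul_inv_rev, map_mul, map_mul]
  simp only [mul_assoc]
  rw [map_inv_mul, mul_one]

theorem leviAvg_mul_piB_zero {f : Module.End ℂ U} {B0 : Mat (m + 1) F} (hB0 : B0 ≠ 0)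
    (hr : f * piB ρ B0 = f) : leviAvg ρ f * piB ρ 0 = 0 := by
  rw [leviAvg, Finset.sum_mul]
  refine Finset.sum_eq_zero fun A _ => ?_
  have h : ρ (levi A)⁻¹ * piB ρ 0 = piB ρ 0 * ρ (levi A)⁻¹ := by
    rw [← levi_inv, levi_mul_piB]
    simp [act]
  rw [mul_assoc, h, ← mul_assoc, mul_assoc (ρ (levi A)) f, ← hr, mul_assoc f, piB_orth ρ hB0, mul_zero, mul_zero,
    zero_mul]

theorem leviAvg_corner (h2 : (2 : F) ≠ 0) (hR : RankLE1 ρ)
    (hneg : ∀ f : Module.End ℂ U, Commute (ρ (levi (-1 : GL (Fin (m + 1)) F))) f) {b : F} (hb : b ≠ 0)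
    {f : Module.End ℂ U} (hl : piB ρ (b • E0 m F) * f = f) (hr : f * piB ρ (b • E0 m F) = f) :
    ∃ c : ℂ, c ≠ 0 ∧ piB ρ (b • E0 m F) * leviAvg ρ f * piB ρ (b • E0 m F) = c • f := by
  classical
  set B0 := b • E0 m F
  let L := Finset.univ.filter fun A : GL (Fin (m + 1)) F => act A B0 = B0
  refine ⟨(L.card : ℂ), Nat.cast_ne_zero.mpr (Finset.card_ne_zero.mpr
    ⟨1, Finset.mem_filter.mpr ⟨Finset.mem_univ _, act_one _⟩⟩), ?_⟩
  rw [leviAvg, Finset.mul_sum, Finset.sum_mul, Nat.cast_smul_eq_nsmul, ← Finset.sum_const]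
  rw [← Finset.sum_filter_add_sum_filter_not Finset.univ (fun A : GL (Fin (m + 1)) F => act A B0 = B0)]
  have hzero : ∑ A ∈ Finset.univ.filter (fun A : GL (Fin (m + 1)) F => ¬act A B0 = B0),
      piB ρ B0 * (ρ (levi A) * f * ρ (levi A)⁻¹) * piB ρ B0 = 0 := by
    refine Finset.sum_eq_zero fun A hA => ?_
    have h1 : piB ρ B0 * (ρ (levi A) * piB ρ B0) = 0 := by
      rw [levi_mul_piB, ← mul_assoc, piB_orth ρ (Ne.symm (Finset.mem_filter.mp hA).2), zero_mul]
    calc _ = piB ρ B0 * (ρ (levi A) * piB ρ B0) * (f * ρ (levi A)⁻¹ * piB ρ B0) := by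
          conv_lhs => rw [← hl]
          simp only [mul_assoc]
      _ = 0 := by rw [h1, zero_mul]
  rw [hzero, add_zero]
  refine Finset.sum_congr rfl fun A hA => ?_
  rw [(corner_commute_stab h2 hR hneg hb hl hr A (Finset.mem_filter.mp hA).2).eq, mul_assoc f, map_mul_inv, mul_one,
    hl, hr]

theorem idem_trace_ne_zero [FiniteDimensional ℂ U] {Q : Module.End ℂ U} (hQ : Q * Q = Q) (h0 : Q ≠ 0) :
    LinearMap.trace ℂ U Q ≠ 0 := by
  have hp : LinearMap.IsProj (LinearMap.range Q) Q :=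
    ⟨fun x => ⟨x, rfl⟩, fun x hx => by
      obtain ⟨y, rfl⟩ := hx
      exact LinearMap.congr_fun hQ y⟩
  rw [hp.trace]
  refine Nat.cast_ne_zero.mpr fun h => h0 ?_
  exact LinearMap.range_eq_bot.mp (Submodule.finrank_eq_zero.mp h)

set_option maxHeartbeats 800000 in
/-- Uniqueness of irreducible rank-one representations. -/
theorem character_eq [FiniteDimensional ℂ V] [FiniteDimensional ℂ W] (hm : 1 ≤ m) (h2 : (2 : F) ≠ 0)
    (ρV : Representation ℂ (Sp (m + 1) F) V) (ρW : Representation ℂ (Sp (m + 1) F) W)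
    [hiV : ρV.IsIrreducible] [hiW : ρW.IsIrreducible] (hV : RankLE1 ρV) (hW : RankLE1 ρW) {ε : ℂ}
    (eV : ρV (levi (-1 : GL (Fin (m + 1)) F)) = ε • (1 : Module.End ℂ V))
    (eW : ρW (levi (-1 : GL (Fin (m + 1)) F)) = ε • (1 : Module.End ℂ W)) {b : F} (hb : b ≠ 0)
    (nV : piB ρV (b • E0 m F) ≠ 0) (nW : piB ρW (b • E0 m F) ≠ 0) : ρV.character = ρW.character := by
  classical
  set B0 := b • E0 m F with hB0
  have hB0' : B0 ≠ 0 := fun h => hb (by simpa [hB0, E0] using congrFun (congrFun h 0) 0)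
  set ρ := ρV.prod ρW with hρ
  have hR : RankLE1 ρ := rankLE1_prod hV hW
  have hneg : ∀ f : Module.End ℂ (V × W), Commute (ρ (levi (-1 : GL (Fin (m + 1)) F))) f := by
    intro f
    have : ρ (levi (-1 : GL (Fin (m + 1)) F)) = ε • (1 : Module.End ℂ (V × W)) := by
      refine LinearMap.ext fun x => ?_
      simp [hρ, eV, eW, Prod.smul_def]
    rw [this]
    exact (Commute.one_left f).smul_left ε
  obtain ⟨v, hv⟩ : ∃ v, piB ρV B0 v ≠ 0 := by
    by_contra h; push Not at h; exact nV (LinearMap.ext h)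
  obtain ⟨w, hw⟩ : ∃ w, piB ρW B0 w ≠ 0 := by
    by_contra h; push Not at h; exact nW (LinearMap.ext h)
  obtain ⟨ψ, hψ⟩ : ∃ ψ : W →ₗ[ℂ] ℂ, ψ (piB ρW B0 w) ≠ 0 := by
    by_contra h; push Not at h
    exact hw ((Module.forall_dual_apply_eq_zero_iff ℂ _).mp h)
  set v0 := piB ρV B0 v
  set φ := ψ.comp (piB ρW B0)
  let f : Module.End ℂ (V × W) :=
    (LinearMap.inl ℂ V W).comp (((φ.comp (LinearMap.snd ℂ V W))).smulRight v0)
  have hfa : ∀ x : V × W, f x = (φ x.2 • v0, 0) := fun x => rfl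
  have hpp : ∀ (B : Mat (m + 1) F) (u : V), piB ρV B (piB ρV B u) = piB ρV B u := fun B u =>
    LinearMap.congr_fun (piB_self ρV B) u
  have hpp' : ∀ (B : Mat (m + 1) F) (u : W), piB ρW B (piB ρW B u) = piB ρW B u := fun B u =>
    LinearMap.congr_fun (piB_self ρW B) u
  have hl : piB ρ B0 * f = f := LinearMap.ext fun x => by
    rw [Module.End.mul_apply, hfa, piB_prod]
    simp [v0, hpp]
  have hr : f * piB ρ B0 = f := LinearMap.ext fun x => by
    rw [Module.End.mul_apply, hfa, hfa, piB_prod]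
    simp [φ, hpp']
  set T := leviAvg ρ f
  have hT : PEquiv ρ T := leviAvg_pequiv (commute_siegel_of_corner ρ hl hr)
  have hT0 : T * piB ρ 0 = 0 := leviAvg_mul_piB_zero hB0' hr
  obtain ⟨c, hc, hcor⟩ := leviAvg_corner h2 hR hneg hb hl hr
  set Q : Module.End ℂ (V × W) := 1 - piB ρ 0 with hQ
  have hTQ : T * Q = T := by rw [hQ, mul_sub, mul_one, hT0, sub_zero]
  have hQT : ∀ B, Commute (piB ρ B) Q := fun B => (Commute.one_right _).sub_right (by
    show _ = _
    rcases eq_or_ne B 0 with rfl | hne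
    · rfl
    · rw [piB_orth ρ hne, piB_orth ρ hne.symm])
  have hswap : ∀ g, piB ρ B0 * ρ g * T * Q = piB ρ B0 * T * ρ g * Q := by
    intro g
    have hsum : ∑ B : Mat (m + 1) F, piB ρ B0 * (ρ g * T - T * ρ g) * (piB ρ B * Q) = 0 := by
      refine Finset.sum_eq_zero fun B _ => ?_
      rcases eq_or_ne B 0 with rfl | hne
      · rw [hQ, show piB ρ 0 * (1 - piB ρ 0) = 0 by rw [mul_sub, mul_one, piB_self, sub_self], mul_zero]
      · rw [← mul_assoc, show piB ρ B0 * (ρ g * T - T * ρ g) * piB ρ B = 0 from cm_all hm h2 hR hT g B0 B hB0' hne,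
          zero_mul]
    rw [← Finset.mul_sum, ← Finset.sum_mul, sum_piB, one_mul] at hsum
    rw [← sub_eq_zero, ← hsum]
    simp only [mul_sub, sub_mul, ← mul_assoc]
  -- averaging over the group
  set Θ := ∑ g : Sp (m + 1) F, ρ g * T * ρ g⁻¹ with hΘ
  set K := ∑ g : Sp (m + 1) F, ρ g * Q * ρ g⁻¹ with hK
  have hcomm : ∀ (X : Module.End ℂ (V × W)) (h : Sp (m + 1) F),
      ρ h * (∑ g, ρ g * X * ρ g⁻¹) = (∑ g, ρ g * X * ρ g⁻¹) * ρ h := by
    intro X h
    rw [Finset.mul_sum, Finset.sum_mul]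
    refine Fintype.sum_equiv (Equiv.mulLeft h) _ _ fun g => ?_
    show _ = ρ (h * g) * X * ρ (h * g)⁻¹ * ρ h
    rw [_root_.mul_inv_rev, map_mul, map_mul]
    simp only [mul_assoc]
    rw [map_inv_mul, mul_one]
  have hKp : Commute (piB ρ B0) K := piB_commute_of_siegel ρ (fun M => hcomm Q _) B0
  have hΘc : piB ρ B0 * Θ * piB ρ B0 = c • (f * K) := by
    calc piB ρ B0 * Θ * piB ρ B0 = piB ρ B0 * T * K * piB ρ B0 := by
          rw [hΘ, hK, Finset.mul_sum, Finset.mul_sum]
          congr 1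
          refine Finset.sum_congr rfl fun g _ => ?_
          conv_lhs => rw [← hTQ]
          simp only [← mul_assoc]
          rw [hswap g]
      _ = piB ρ B0 * T * piB ρ B0 * K := by rw [mul_assoc, ← hKp.eq, ← mul_assoc]
      _ = c • (f * K) := by rw [hcor, smul_mul_assoc]
  -- `K` on the second component
  set QW : Module.End ℂ W := 1 - piB ρW 0 with hQW
  set KW := ∑ g : Sp (m + 1) F, ρW g * QW * ρW g⁻¹ with hKW
  have hK2 : ∀ x : V × W, (K x).2 = KW x.2 := by
    intro x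
    simp only [hK, hKW, LinearMap.sum_apply, Prod.snd_sum, Module.End.mul_apply]
    refine Finset.sum_congr rfl fun g _ => ?_
    simp [hρ, hQ, hQW, piB_prod]
  have hKWc : ∀ h, KW * ρW h = ρW h * KW := by
    intro h
    rw [hKW, Finset.mul_sum, Finset.sum_mul]
    refine (Fintype.sum_equiv (Equiv.mulLeft h) _ _ fun g => ?_).symm
    show _ = ρW (h * g) * QW * ρW (h * g)⁻¹ * ρW h
    rw [_root_.mul_inv_rev, map_mul, map_mul]
    simp only [mul_assoc]
    rw [map_inv_mul, mul_one]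
  obtain ⟨κ, hκ⟩ := CfsgLib.Characters.schur_scalar ρW KW hKWc
  have hκ0 : κ ≠ 0 := by
    intro h0
    have htr : LinearMap.trace ℂ W KW = (Nat.card (Sp (m + 1) F) : ℂ) * LinearMap.trace ℂ W QW := by
      rw [hKW, map_sum, Finset.sum_congr rfl fun g _ => show LinearMap.trace ℂ W (ρW g * QW * ρW g⁻¹) =
          LinearMap.trace ℂ W QW by rw [LinearMap.trace_mul_comm, ← mul_assoc, map_inv_mul, one_mul],
        Finset.sum_const, Finset.card_univ, nsmul_eq_mul, Nat.card_eq_fintype_card]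
    rw [hκ, h0, zero_smul, map_zero] at htr
    have hQQ : QW * QW = QW := by rw [hQW, mul_sub, mul_one, sub_mul, one_mul, piB_self, sub_self, sub_zero]
    have hne : QW ≠ 0 := by
      intro h
      apply nW
      have : piB ρW B0 * QW = piB ρW B0 := by rw [hQW, mul_sub, mul_one, piB_orth ρW hB0', sub_zero]
      rw [h, mul_zero] at this
      exact this.symm
    exact idem_trace_ne_zero hQQ hne ((mul_eq_zero.mp htr.symm).resolve_left
      (Nat.cast_ne_zero.mpr Nat.card_pos.ne'))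
  -- the equivariant map
  let ℓ : W →ₗ[ℂ] V := (LinearMap.fst ℂ V W).comp (Θ.comp (LinearMap.inr ℂ V W))
  have hint : ∀ h x, ℓ (ρW h x) = ρV h (ℓ x) := by
    intro h x
    have e : ρ h ((0 : V), x) = ((0 : V), ρW h x) := Prod.ext (by simp [hρ]) rfl
    have hh := congrArg Prod.fst (LinearMap.congr_fun (hcomm T h) ((0 : V), x))
    rw [Module.End.mul_apply, Module.End.mul_apply, e] at hh
    exact hh.symm
  have hℓ0 : ℓ ≠ 0 := by
    intro h0
    have h := congrArg Prod.fst (LinearMap.congr_fun hΘc (0, w))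
    rw [Module.End.mul_apply, Module.End.mul_apply, piB_prod, piB_prod, LinearMap.smul_apply, Module.End.mul_apply,
      hfa, hK2, hκ] at h
    have e : (Θ ((0 : V), piB ρW B0 w)).1 = 0 := LinearMap.congr_fun h0 (piB ρW B0 w)
    simp [e, φ] at h
    rcases smul_eq_zero.mp h.symm with h' | h'
    · exact hc h'
    rcases smul_eq_zero.mp h' with h'' | h''
    · rcases mul_eq_zero.mp h'' with h3 | h3
      · exact hκ0 h3
      · exact hψ h3
    · exact hv h''
  obtain ⟨hnW, hirW⟩ := (CfsgLib.Characters.isIrreducible_iff ρW).mp hiW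
  obtain ⟨hnV, hirV⟩ := (CfsgLib.Characters.isIrreducible_iff ρV).mp hiV
  have hker : LinearMap.ker ℓ = ⊥ := by
    rcases hirW (LinearMap.ker ℓ) (fun g x hx => by
      rw [LinearMap.mem_ker] at hx ⊢; rw [hint, hx, map_zero]) with h | h
    · exact h
    · exact absurd (LinearMap.ker_eq_top.mp h) hℓ0
  have hrange : LinearMap.range ℓ = ⊤ := by
    rcases hirV (LinearMap.range ℓ) (fun g x hx => by
      obtain ⟨y, rfl⟩ := hx; exact ⟨ρW g y, hint g y⟩) with h | h
    · exact absurd (LinearMap.range_eq_bot.mp h) hℓ0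
    · exact h
  let e := LinearEquiv.ofBijective ℓ ⟨LinearMap.ker_eq_bot.mp hker, LinearMap.range_eq_top.mp hrange⟩
  funext g
  show LinearMap.trace ℂ V (ρV g) = LinearMap.trace ℂ W (ρW g)
  rw [← LinearMap.trace_conj' (ρW g) e]
  congr 1
  refine LinearMap.ext fun y => ?_
  obtain ⟨x, rfl⟩ := e.surjective y
  rw [LinearEquiv.conj_apply]
  simp only [LinearMap.comp_apply, LinearEquiv.coe_coe, LinearEquiv.symm_apply_apply]
  exact (hint g x).symm

end CfsgLib.SpWeilRankOne
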