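import Cfsg.Agent.Lib.SpWeilRankOne.Unique
import Cfsg.Agent.Lib.SpWeilRankOne.Orbit
import Cfsg.Agent.Lib.SpWeilDeg.Weil
import Cfsg.Agent.Lib.CharBound.Basic

set_option autoImplicit false
set_option linter.unusedSectionVars false
set_option linter.style.haveILetI false
set_option linter.unusedSimpArgs false

/-! The Weil representations with their Siegel spectra. -/

namespace CfsgLib.SpWeilRankOne

open Matrix CfsgLib.SpWeilDeg CfsgLib.KnownSimple.ModulePerm

variable {F : Type*} [Field F] [Fintype F] [DecidableEq F]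

section General

variable {n : ℕ} {U : Type*} [AddCommGroup U] [Module ℂ U] (ρ : Representation ℂ (Sp n F) U)

theorem phi_injective : Function.Injective fun (B : Mat n F) (M : Mat n F) => phi B M := by
  intro B B' h
  have : phi (B - B') = 0 := by
    ext M
    have e := phi_add_left (B - B') B' M
    rw [sub_add_cancel, show phi B M = phi B' M from congrFun h M] at e
    rw [AddChar.zero_apply]
    exact mul_right_cancel₀ (phi_ne_zero B' M) (by rw [one_mul]; exact e.symm)
  exact sub_eq_zero.mp ((phi_eq_zero_iff _).mp this)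

theorem card_orbit_le [FiniteDimensional ℂ U] {B : Mat n F} (h : piB ρ B ≠ 0) :
    Nat.card (orbit B) ≤ Module.finrank ℂ U := by
  classical
  haveI : Fintype (orbit B) := Fintype.ofFinite _
  have hne : ∀ C : orbit B, ∃ v, piB ρ C.1 v ≠ 0 := by
    rintro ⟨C, A, rfl⟩
    by_contra hc
    push Not at hc
    have := piB_ne_zero_act ρ A⁻¹ h
    rw [act_inv] at this
    exact this (LinearMap.ext hc)
  choose v hv using hne
  rw [Nat.card_eq_fintype_card]
  refine CfsgLib.CharBound.card_le_finrank (fun M : Mat n F => ρ (siegel M)) (fun (C : orbit B) M => phi C.1 M) ?_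
    (fun C => piB ρ C.1 (v C)) hv (fun C M => ?_)
  · exact fun C C' hCC => Subtype.ext (phi_injective hCC)
  · exact LinearMap.congr_fun (siegel_mul_piB ρ M C.1) (v C)

theorem rankLE1_of_small [FiniteDimensional ℂ U] (hodd : Odd (Fintype.card F)) (hn : 2 ≤ n)
    (hd : 2 * (Fintype.card F + 1) * Module.finrank ℂ U <
      (Fintype.card F ^ n - 1) * (Fintype.card F ^ n - Fintype.card F)) : RankLE1 ρ := by
  intro B hB
  by_contra h
  have h1 := orbit_bound hodd hn (symm_of_piB_ne_zero ρ hB) h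
  have h2 := Nat.mul_le_mul_left (2 * (Fintype.card F + 1)) (card_orbit_le ρ hB)
  omega

end General

theorem weil_small (hodd : Odd (Fintype.card F)) {n d : ℕ} (hn : 2 ≤ n) (hd : 2 * d ≤ Fintype.card F ^ n + 1) :
    2 * (Fintype.card F + 1) * d < (Fintype.card F ^ n - 1) * (Fintype.card F ^ n - Fintype.card F) := by
  have hq : 3 ≤ Fintype.card F := by
    have : 2 ≤ Fintype.card F := Fintype.one_lt_card
    rcases hodd with ⟨k, hk⟩; omega
  set q := Fintype.card F
  have hX : q * q ≤ q ^ n := by rw [← pow_two]; exact Nat.pow_le_pow_right (by omega) hn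
  have h9 : 3 * q ≤ q * q := Nat.mul_le_mul_right _ hq
  obtain ⟨A, hA⟩ : ∃ A, q ^ n = A + 1 := ⟨q ^ n - 1, by omega⟩
  obtain ⟨C, hC⟩ : ∃ C, q ^ n = C + q := ⟨q ^ n - q, by omega⟩
  rw [show q ^ n - 1 = A by omega, show q ^ n - q = C by omega]
  have h1 : 2 * (q + 1) * d ≤ (q + 1) * (A + 2) := by
    rw [mul_comm 2, mul_assoc]
    exact Nat.mul_le_mul_left _ (by omega)
  have hC' : q + 3 ≤ C := by omega
  have h2 := Nat.mul_le_mul_left A hC'
  have hA' : q + 1 < A := by omega
  nlinarith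

variable {m : ℕ}

/-- `diag (c, 1)`-conjugation. -/
noncomputable def simHom (n : ℕ) (c : F) (hc : c ≠ 0) : Sp n F →* Sp n F where
  toFun g := ⟨fromBlocks (c • (1 : Mat n F)) 0 0 (1 : Mat n F) * g.1 * fromBlocks (c⁻¹ • (1 : Mat n F)) 0 0 (1 : Mat n F), by
    have e1 : fromBlocks (c⁻¹ • (1 : Mat n F)) 0 0 (1 : Mat n F) * Matrix.J (Fin n) F * (fromBlocks (c⁻¹ • (1 : Mat n F)) 0 0 (1 : Mat n F))ᵀ =
        c⁻¹ • Matrix.J (Fin n) F := by
      simp [Matrix.J, fromBlocks_transpose, fromBlocks_multiply, fromBlocks_smul]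
    have e2 : fromBlocks (c • (1 : Mat n F)) 0 0 (1 : Mat n F) * Matrix.J (Fin n) F * (fromBlocks (c • (1 : Mat n F)) 0 0 (1 : Mat n F))ᵀ =
        c • Matrix.J (Fin n) F := by
      simp [Matrix.J, fromBlocks_transpose, fromBlocks_multiply, fromBlocks_smul]
    have hg := SymplecticGroup.mem_iff.mp g.2
    rw [SymplecticGroup.mem_iff, transpose_mul, transpose_mul]
    calc _ = fromBlocks (c • (1 : Mat n F)) 0 0 (1 : Mat n F) * (g.1 * (fromBlocks (c⁻¹ • (1 : Mat n F)) 0 0 (1 : Mat n F) * Matrix.J (Fin n) F *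
          (fromBlocks (c⁻¹ • (1 : Mat n F)) 0 0 (1 : Mat n F))ᵀ) * g.1ᵀ) * (fromBlocks (c • (1 : Mat n F)) 0 0 (1 : Mat n F))ᵀ := by
          simp only [mul_assoc]
      _ = c⁻¹ • (fromBlocks (c • (1 : Mat n F)) 0 0 (1 : Mat n F) * Matrix.J (Fin n) F * (fromBlocks (c • (1 : Mat n F)) 0 0 (1 : Mat n F))ᵀ) := by
          rw [e1, mul_smul_comm, smul_mul_assoc, hg, mul_smul_comm, smul_mul_assoc]
      _ = Matrix.J (Fin n) F := by rw [e2, smul_smul, inv_mul_cancel₀ hc, one_smul]⟩
  map_one' := Subtype.ext (by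
    show fromBlocks (c • (1 : Mat n F)) 0 0 (1 : Mat n F) * 1 * fromBlocks (c⁻¹ • (1 : Mat n F)) 0 0 (1 : Mat n F) = 1
    simp [fromBlocks_multiply, smul_smul, hc, fromBlocks_one])
  map_mul' g h := Subtype.ext (by
    show fromBlocks (c • (1 : Mat n F)) 0 0 (1 : Mat n F) * (g.1 * h.1) * fromBlocks (c⁻¹ • (1 : Mat n F)) 0 0 (1 : Mat n F) =
      fromBlocks (c • (1 : Mat n F)) 0 0 (1 : Mat n F) * g.1 * fromBlocks (c⁻¹ • (1 : Mat n F)) 0 0 (1 : Mat n F) *
        (fromBlocks (c • (1 : Mat n F)) 0 0 (1 : Mat n F) * h.1 * fromBlocks (c⁻¹ • (1 : Mat n F)) 0 0 (1 : Mat n F))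
    have e : fromBlocks (c⁻¹ • (1 : Mat n F)) 0 0 (1 : Mat n F) * fromBlocks (c • (1 : Mat n F)) 0 0 (1 : Mat n F) = 1 := by
      simp [fromBlocks_multiply, smul_smul, hc, fromBlocks_one]
    calc _ = fromBlocks (c • (1 : Mat n F)) 0 0 (1 : Mat n F) * g.1 *
          (fromBlocks (c⁻¹ • (1 : Mat n F)) 0 0 (1 : Mat n F) * fromBlocks (c • (1 : Mat n F)) 0 0 (1 : Mat n F)) * h.1 *
          fromBlocks (c⁻¹ • (1 : Mat n F)) 0 0 (1 : Mat n F) := by rw [e, mul_one]; simp only [mul_assoc]
      _ = _ := by simp only [mul_assoc])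

theorem simHom_surjective {n : ℕ} (c : F) (hc : c ≠ 0) : Function.Surjective (simHom n c hc) := by
  intro g
  refine ⟨simHom n c⁻¹ (inv_ne_zero hc) g, Subtype.ext ?_⟩
  show fromBlocks (c • (1 : Mat n F)) 0 0 (1 : Mat n F) * (fromBlocks (c⁻¹ • (1 : Mat n F)) 0 0 (1 : Mat n F) * g.1 * fromBlocks (c⁻¹⁻¹ • (1 : Mat n F)) 0 0 (1 : Mat n F)) *
    fromBlocks (c⁻¹ • (1 : Mat n F)) 0 0 (1 : Mat n F) = g.1
  have e1 : fromBlocks (c • (1 : Mat n F)) 0 0 (1 : Mat n F) * fromBlocks (c⁻¹ • (1 : Mat n F)) 0 0 (1 : Mat n F) = 1 := by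
    simp [fromBlocks_multiply, smul_smul, hc, fromBlocks_one]
  rw [inv_inv]
  calc _ = (fromBlocks (c • (1 : Mat n F)) 0 0 (1 : Mat n F) * fromBlocks (c⁻¹ • (1 : Mat n F)) 0 0 (1 : Mat n F)) * g.1 *
        (fromBlocks (c • (1 : Mat n F)) 0 0 (1 : Mat n F) * fromBlocks (c⁻¹ • (1 : Mat n F)) 0 0 (1 : Mat n F)) := by simp only [mul_assoc]
    _ = g.1 := by rw [e1, one_mul, mul_one]

theorem simHom_siegel {n : ℕ} (c : F) (hc : c ≠ 0) (M : Mat n F) : simHom n c hc (siegel M) = siegel (c • M) := by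
  apply Subtype.ext
  show fromBlocks (c • (1 : Mat n F)) 0 0 (1 : Mat n F) * (siegel M).1 * fromBlocks (c⁻¹ • (1 : Mat n F)) 0 0 (1 : Mat n F) = (siegel (c • M)).1
  rw [coe_siegel, coe_siegel, fromBlocks_multiply, fromBlocks_multiply]
  simp [smul_smul, hc, smul_add, transpose_smul]

theorem simHom_neg {n : ℕ} (c : F) (hc : c ≠ 0) :
    simHom n c hc (levi (-1 : Matrix.GeneralLinearGroup (Fin n) F)) = levi (-1 : Matrix.GeneralLinearGroup (Fin n) F) := by
  apply Subtype.ext
  show fromBlocks (c • (1 : Mat n F)) 0 0 (1 : Mat n F) * (levi _).1 * fromBlocks (c⁻¹ • (1 : Mat n F)) 0 0 (1 : Mat n F) = (levi _).1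
  rw [coe_levi, fromBlocks_multiply, fromBlocks_multiply]
  simp [smul_smul, hc]

theorem isIrreducible_comp {G H V : Type*} [Group G] [Group H] [AddCommGroup V] [Module ℂ V]
    (ρ : Representation ℂ G V) (hρ : ρ.IsIrreducible) (f : H →* G) (hf : Function.Surjective f) :
    Representation.IsIrreducible (ρ.comp f : Representation ℂ H V) := by
  rw [CfsgLib.Characters.isIrreducible_iff] at hρ ⊢
  refine ⟨hρ.1, fun U hU => hρ.2 U fun g v hv => ?_⟩
  obtain ⟨h, rfl⟩ := hf g
  exact hU h v hv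

theorem piB_comp_simHom {n : ℕ} {U : Type*} [AddCommGroup U] [Module ℂ U] (ρ : Representation ℂ (Sp n F) U)
    (c : F) (hc : c ≠ 0) (B : Mat n F) :
    piB (ρ.comp (simHom n c hc) : Representation ℂ (Sp n F) U) B = piB ρ (c⁻¹ • B) := by
  simp only [piB, MonoidHom.coe_comp, Function.comp_apply, simHom_siegel]
  congr 1
  let e : Mat n F ≃ Mat n F :=
    { toFun := fun M => c • M
      invFun := fun M => c⁻¹ • M
      left_inv := fun M => inv_smul_smul₀ hc M
      right_inv := fun M => smul_inv_smul₀ hc M }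
  refine Fintype.sum_equiv e _ _ fun M => ?_
  show phi B (-M) • ρ (siegel (c • M)) = phi (c⁻¹ • B) (-(c • M)) • ρ (siegel (c • M))
  congr 1
  rw [phi_apply, phi_apply, transpose_smul, ← smul_neg, smul_mul_smul_comm, inv_mul_cancel₀ hc, one_smul]

theorem implements_unique {n : ℕ} (hodd : Odd (Fintype.card F)) {g : Sp n F}
    {X X' : Module.End ℂ ((Fin n → F) → ℂ)} (hi : Implements g X) (hu : IsUnit X) (hi' : Implements g X') :
    ∃ c : ℂ, X' = c • X := by
  obtain ⟨u, rfl⟩ := hu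
  obtain ⟨c, hc⟩ := exists_scalar hodd ((↑u⁻¹ : Module.End ℂ ((Fin n → F) → ℂ)) * X') (fun v => by
    have h1 : (↑u⁻¹ : Module.End ℂ ((Fin n → F) → ℂ)) * weylOp (g.1 *ᵥ v) =
        weylOp v * (↑u⁻¹ : Module.End ℂ ((Fin n → F) → ℂ)) := by
      calc _ = (↑u⁻¹ : Module.End ℂ ((Fin n → F) → ℂ)) * (weylOp (g.1 *ᵥ v) * (u : Module.End ℂ _)) * ↑u⁻¹ := by
            rw [mul_assoc, mul_assoc, Units.mul_inv, mul_one]
        _ = _ := by rw [← hi v, ← mul_assoc, Units.inv_mul, one_mul]
    rw [mul_assoc, hi' v, ← mul_assoc, h1, mul_assoc])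
  refine ⟨c, ?_⟩
  have := congrArg ((u : Module.End ℂ ((Fin n → F) → ℂ)) * ·) hc
  simpa [← mul_assoc] using this

/-- Conjugation by `J`. -/
noncomputable def conjJ (n : ℕ) (F : Type*) [Field F] [DecidableEq F] : Sp n F →* Sp n F :=
  (MulAut.conj (⟨Matrix.J (Fin n) F, SymplecticGroup.J_mem _ _⟩ : Sp n F)).toMonoidHom

theorem conjJ_surjective {n : ℕ} : Function.Surjective (conjJ n F) :=
  (MulAut.conj (⟨Matrix.J (Fin n) F, SymplecticGroup.J_mem _ _⟩ : Sp n F)).surjective

theorem conjJ_siegel {n : ℕ} (M : Mat n F) : conjJ n F (siegel M) = lower (-M) := by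
  show _ * siegel M * _⁻¹ = _
  rw [mul_inv_eq_iff_eq_mul]
  apply Subtype.ext
  show Matrix.J (Fin n) F * (siegel M).1 = (lower (-M)).1 * Matrix.J (Fin n) F
  rw [coe_siegel, coe_lower, Matrix.J, fromBlocks_multiply, fromBlocks_multiply]
  simp
  abel

theorem conjJ_neg {n : ℕ} : conjJ n F (levi (-1 : Matrix.GeneralLinearGroup (Fin n) F)) = levi (-1 : Matrix.GeneralLinearGroup (Fin n) F) := by
  show _ * levi (-1 : Matrix.GeneralLinearGroup (Fin n) F) * _⁻¹ = _
  rw [mul_inv_eq_iff_eq_mul]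
  apply Subtype.ext
  show Matrix.J (Fin n) F * (levi _).1 = (levi _).1 * Matrix.J (Fin n) F
  rw [coe_levi, Matrix.J, fromBlocks_multiply, fromBlocks_multiply]
  simp

section Weil

variable {n : ℕ} (hodd : Odd (Fintype.card F))

/-- The Weil representation, twisted by `J`. -/
noncomputable def weilFull : Representation ℂ (Sp n F) ((Fin n → F) → ℂ) :=
  (evens n F).subtype.comp ((weilOp hodd).comp (conjJ n F))

/-- Its parity parts. -/
noncomputable def weilPart (s : ℂ) : Representation ℂ (Sp n F) (part n F s) :=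
  (restr s).comp ((weilOp hodd).comp (conjJ n F))

theorem coe_weilPart (s : ℂ) (g : Sp n F) (f : part n F s) :
    (weilPart hodd s g f : (Fin n → F) → ℂ) = weilFull hodd g f.1 := rfl

theorem coe_piB_weilPart (s : ℂ) (B : Mat n F) (f : part n F s) :
    (piB (weilPart hodd s) B f : (Fin n → F) → ℂ) = piB (weilFull hodd) B f.1 := by
  simp [piB, LinearMap.sum_apply, coe_weilPart]

theorem implements_weilFull (g : Sp n F) : Implements (conjJ n F g) (weilFull hodd g) :=
  weilOp_implements hodd _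

theorem isUnit_weilFull (g : Sp n F) : IsUnit (weilFull hodd g) :=
  ⟨⟨weilFull hodd g, weilFull hodd g⁻¹, by rw [← map_mul, mul_inv_cancel, map_one],
    by rw [← map_mul, inv_mul_cancel, map_one]⟩, rfl⟩

theorem weilFull_neg : ∃ c : ℂ, c ≠ 0 ∧ weilFull hodd (levi (-1 : Matrix.GeneralLinearGroup (Fin n) F)) = c • parity := by
  have hp : Implements (conjJ n F (levi (-1 : Matrix.GeneralLinearGroup (Fin n) F))) (parity : Module.End ℂ ((Fin n → F) → ℂ)) := by
    intro v
    rw [parity_weylOp]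
    congr 2
    rw [conjJ_neg, coe_levi]
    funext i
    rcases i with i | i <;> simp [Matrix.mulVec, fromBlocks, dotProduct, Fintype.sum_sum_type, Matrix.one_apply,
      Finset.sum_ite_eq]
  obtain ⟨c, hc⟩ := implements_unique hodd hp ⟨⟨parity, parity, parity_sq, parity_sq⟩, rfl⟩
    (implements_weilFull hodd _)
  refine ⟨c, fun h => ?_, hc⟩
  have hu := isUnit_weilFull hodd (levi (-1 : Matrix.GeneralLinearGroup (Fin n) F))
  rw [hc, h, zero_smul] at hu
  exact not_isUnit_zero hu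

/-- Multiplication by a Gaussian. -/
noncomputable def gauss (M : Mat n F) : Module.End ℂ ((Fin n → F) → ℂ) where
  toFun f x := phi (vecMulVec x x) M * f x
  map_add' f g := funext fun x => by simp only [Pi.add_apply]; ring
  map_smul' c f := funext fun x => by simp only [Pi.smul_apply, smul_eq_mul, RingHom.id_apply]; ring

theorem phi_outer (x : Fin n → F) (M : Mat n F) : phi (vecMulVec x x) M = chi F (x ⬝ᵥ (M *ᵥ x)) := by
  rw [phi_apply, transpose_vecMulVec, vecMulVec_mul, trace_vecMulVec, dotProduct_mulVec, dotProduct_comm]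

theorem gauss_mul (M N : Mat n F) : gauss M * gauss N = gauss (M + N) :=
  LinearMap.ext fun f => funext fun x => by
    simp only [gauss, Module.End.mul_apply, LinearMap.coe_mk, AddHom.coe_mk, AddChar.map_add_eq_mul]; ring

theorem gauss_zero : gauss (0 : Mat n F) = 1 :=
  LinearMap.ext fun f => funext fun x => by
    simp [gauss]

theorem isUnit_gauss (M : Mat n F) : IsUnit (gauss M) :=
  ⟨⟨gauss M, gauss (-M), by rw [gauss_mul, add_neg_cancel, gauss_zero], by
    rw [gauss_mul, neg_add_cancel, gauss_zero]⟩, rfl⟩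

theorem gauss_implements (h2 : (2 : F) ≠ 0) (M : Mat n F) : Implements (lower (-M)) (gauss M) := by
  intro v
  set vl : Fin n → F := fun i => v (Sum.inl i)
  set vr : Fin n → F := fun i => v (Sum.inr i)
  have hgl : (fun i => ((lower (-M)).1 *ᵥ v) (Sum.inl i)) = vl := by
    rw [coe_lower]; funext i; simp [fromBlocks_mulVec, vl, Function.comp_def]
  have hgr : (fun i => ((lower (-M)).1 *ᵥ v) (Sum.inr i)) = (-M + (-M)ᵀ) *ᵥ vl + vr := by
    rw [coe_lower]; funext i; simp [fromBlocks_mulVec, vl, vr, Function.comp_def]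
  refine LinearMap.ext fun f => funext fun x => ?_
  show phi (vecMulVec x x) M * (chi F (vr ⬝ᵥ x + vl ⬝ᵥ vr / 2) * f (x + vl)) =
    chi F ((fun i => ((lower (-M)).1 *ᵥ v) (Sum.inr i)) ⬝ᵥ x + (fun i => ((lower (-M)).1 *ᵥ v) (Sum.inl i)) ⬝ᵥ
      (fun i => ((lower (-M)).1 *ᵥ v) (Sum.inr i)) / 2) *
      (phi (vecMulVec (x + fun i => ((lower (-M)).1 *ᵥ v) (Sum.inl i)) (x + fun i => ((lower (-M)).1 *ᵥ v) (Sum.inl i))) M *
        f (x + fun i => ((lower (-M)).1 *ᵥ v) (Sum.inl i)))
  rw [hgl, hgr, phi_outer, phi_outer, ← mul_assoc, ← mul_assoc, ← AddChar.map_add_eq_mul, ← AddChar.map_add_eq_mul]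
  congr 2
  have hT : ∀ a b : Fin n → F, a ⬝ᵥ (Mᵀ *ᵥ b) = b ⬝ᵥ (M *ᵥ a) := fun a b => by
    rw [mulVec_transpose, dotProduct_comm, ← dotProduct_mulVec]
  simp only [add_mulVec, neg_mulVec, transpose_neg, mulVec_add, dotProduct_add, add_dotProduct, dotProduct_neg,
    neg_dotProduct, dotProduct_comm (M *ᵥ vl) x, dotProduct_comm (Mᵀ *ᵥ vl) x, hT]
  field_simp
  ring

theorem weilFull_siegel (h2 : (2 : F) ≠ 0) : ∃ Λ : Mat n F, ∀ M, weilFull hodd (siegel M) = phi Λ M • gauss M := by
  classical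
  have hs : ∀ M : Mat n F, ∃ c : ℂ, weilFull hodd (siegel M) = c • gauss M := fun M => by
    have := implements_weilFull hodd (siegel M)
    rw [conjJ_siegel] at this
    exact implements_unique hodd (gauss_implements h2 M) (isUnit_gauss M) this
  choose c hc using hs
  have hinj : ∀ M : Mat n F, ∀ a b : ℂ, a • gauss M = b • gauss M → a = b := fun M a b h =>
    smul_left_injective ℂ (isUnit_gauss M).ne_zero h
  have c0 : c 0 = 1 := hinj 0 _ _ (by rw [← hc, siegel_zero, map_one, gauss_zero, one_smul])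
  have cadd : ∀ M N, c (M + N) = c M * c N := fun M N => hinj (M + N) _ _ (by
    rw [← hc, ← siegel_mul, map_mul, hc, hc, smul_mul_smul_comm, gauss_mul])
  let χ : AddChar (Fin n × Fin n → F) ℂ :=
    { toFun := fun v => c (Matrix.of fun i j => v (i, j))
      map_zero_eq_one' := c0
      map_add_eq_mul' := fun a b => cadd (Matrix.of fun i j => a (i, j)) (Matrix.of fun i j => b (i, j)) }
  obtain ⟨bv, hbv⟩ := psiChar_bijective.surjective χ
  refine ⟨Matrix.of fun i j => bv (i, j), fun M => ?_⟩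
  rw [hc M]
  congr 1
  have h : psiChar bv (fun p => M p.1 p.2) = c M := by rw [hbv]; rfl
  rw [← h, psiChar_apply, phi_apply]
  congr 1
  simp only [dotProduct, Matrix.trace, Matrix.diag, Matrix.mul_apply, transpose_apply, of_apply]
  rw [Fintype.sum_prod_type, Finset.sum_comm]

theorem piB_weilFull_apply {Λ : Mat n F} (hΛ : ∀ M, weilFull hodd (siegel M) = phi Λ M • gauss M)
    (B : Mat n F) (f : (Fin n → F) → ℂ) (x : Fin n → F) :
    piB (weilFull hodd) B f x = if B = Λ + vecMulVec x x then f x else 0 := by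
  classical
  have h : ∀ M : Mat n F, phi B (-M) • (weilFull hodd (siegel M)) f x = phi (Λ + vecMulVec x x - B) M * f x := by
    intro M
    rw [hΛ, sub_eq_add_neg, phi_add_left, phi_add_left,
      show phi (-B) M = phi B (-M) by simp [phi_apply, mul_neg, neg_mul, transpose_neg]]
    simp [gauss]
    ring
  simp only [piB, LinearMap.smul_apply, LinearMap.sum_apply, Pi.smul_apply, Finset.sum_apply, h]
  rw [← Finset.sum_mul, sum_phi_right, smul_eq_mul]
  rcases eq_or_ne (Λ + vecMulVec x x) B with h0 | h0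
  · rw [if_pos (sub_eq_zero.mpr h0), if_pos h0.symm, ← mul_assoc, inv_mul_cancel₀ card_ne_zero, one_mul]
  · rw [if_neg (sub_ne_zero.mpr h0), if_neg (Ne.symm h0), zero_mul, mul_zero]

include hodd in
theorem exists_mem_part (hn : 2 ≤ n) (s : ℂ) (hs : s * s = 1) {x : Fin n → F} (hx : x ≠ 0) :
    ∃ f : part n F s, f.1 x ≠ 0 := by
  classical
  have h2 : (2 : F) ≠ 0 := two_ne hodd
  have hne : x ≠ -x := fun h => hx (funext fun i => by
    have := congrFun h i
    simp only [Pi.neg_apply] at this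
    exact (mul_eq_zero.mp (show (2 : F) * x i = 0 by linear_combination this)).resolve_left h2)
  refine ⟨⟨Pi.single x 1 + s • Pi.single (-x) 1, ?_⟩, ?_⟩
  · rw [mem_part]
    funext y
    show (Pi.single x (1 : ℂ) + s • Pi.single (-x) (1 : ℂ) : (Fin n → F) → ℂ) (-y) = _
    simp only [Pi.add_apply, Pi.smul_apply, Pi.single_apply, smul_eq_mul, neg_eq_iff_eq_neg, neg_neg]
    linear_combination -(if y = -x then (1 : ℂ) else 0) * hs
  · simp [Pi.single_eq_same, Pi.single_eq_of_ne hne]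

include hodd in
theorem finrank_part_le (s : ℂ) (hs : s = 1 ∨ s = -1) :
    2 * Module.finrank ℂ (part n F s) ≤ Fintype.card F ^ n + 1 := by
  obtain ⟨h1, h3⟩ := finrank_parts (n := n) hodd
  rcases hs with rfl | rfl <;> omega

theorem rankLE1_weilPart (hn : 2 ≤ n) (s : ℂ) (hs : s = 1 ∨ s = -1) : RankLE1 (weilPart (n := n) hodd s) :=
  rankLE1_of_small _ hodd hn (weil_small hodd hn (finrank_part_le hodd s hs))

theorem spectrum_weilPart (hn : 2 ≤ n) (s : ℂ) (hs : s = 1 ∨ s = -1) :
    (∀ B, piB (weilPart (n := n) hodd s) B ≠ 0 → ∃ x, B = vecMulVec x x) ∧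
      ∀ x, x ≠ 0 → piB (weilPart (n := n) hodd s) (vecMulVec x x) ≠ 0 := by
  classical
  obtain ⟨k, rfl⟩ : ∃ k, n = k + 1 := ⟨n - 1, by omega⟩
  have h2 : (2 : F) ≠ 0 := two_ne hodd
  obtain ⟨Λ, hΛ⟩ := weilFull_siegel (n := k + 1) hodd h2
  have hne : ∀ t : ℂ, t = 1 ∨ t = -1 → ∀ x : Fin (k + 1) → F, x ≠ 0 →
      piB (weilPart hodd t) (Λ + vecMulVec x x) ≠ 0 := by
    intro t ht x hx h
    obtain ⟨f, hf⟩ := exists_mem_part hodd hn t (by rcases ht with rfl | rfl <;> ring) hx
    apply hf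
    have e := congrArg (fun g : part (k + 1) F t => g.1 x) (LinearMap.congr_fun h f)
    rw [coe_piB_weilPart, piB_weilFull_apply hodd hΛ, if_pos rfl] at e
    exact e
  have hzero : piB (weilPart hodd 1) Λ ≠ 0 := by
    intro h
    have hd : (Pi.single (0 : Fin (k + 1) → F) (1 : ℂ) : (Fin (k + 1) → F) → ℂ) ∈ part (k + 1) F 1 := by
      rw [mem_part]
      funext y
      show (Pi.single (0 : Fin (k + 1) → F) (1 : ℂ) : (Fin (k + 1) → F) → ℂ) (-y) = _
      simp [Pi.single_apply]
    have e := congrArg (fun g : part (k + 1) F 1 => g.1 0) (LinearMap.congr_fun h ⟨_, hd⟩)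
    rw [coe_piB_weilPart, piB_weilFull_apply hodd hΛ] at e
    simp at e
  have hR := rankLE1_weilPart hodd hn 1 (Or.inl rfl)
  have hΛ0 : Λ = 0 := by
    by_contra h0
    obtain ⟨c, r, hc, hr, rfl⟩ := rank_one hR hzero h0
    obtain ⟨i, hi⟩ := Function.ne_iff.mp hr
    haveI : Nontrivial (Fin (k + 1)) := Fin.nontrivial_iff_two_le.mpr hn
    obtain ⟨j, hji⟩ := exists_ne i
    have := hR _ (hne 1 (Or.inl rfl) (Pi.single j 1) (by simp)) i i j j
    simp only [Matrix.add_apply, Matrix.smul_apply, vecMulVec_apply, smul_eq_mul, Pi.single_eq_same,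
      Pi.single_eq_of_ne hji.symm] at this
    have e : c * r i ^ 2 = 0 := by linear_combination this
    exact hi (by simpa [hc] using e)
  subst hΛ0
  refine ⟨fun B hB => ?_, fun x hx => by simpa using hne s hs x hx⟩
  by_contra hx
  push Not at hx
  refine hB (LinearMap.ext fun f => Subtype.ext (funext fun x => ?_))
  rw [coe_piB_weilPart, piB_weilFull_apply hodd hΛ, if_neg (by simpa using hx x)]
  rfl

theorem weilPart_irreducible (hn : 2 ≤ n) (s : ℂ) (hs : s = 1 ∨ s = -1) :
    (weilPart (n := n) hodd s).IsIrreducible := by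
  classical
  rcases hs with rfl | rfl
  swap
  · exact isIrreducible_comp (weilOdd hodd) (weilOdd_irreducible hn hodd) (conjJ n F) conjJ_surjective
  have h2 : (2 : F) ≠ 0 := two_ne hodd
  have hq : 3 ≤ Fintype.card F := by
    have : 2 ≤ Fintype.card F := Fintype.one_lt_card
    rcases hodd with ⟨k, hk⟩; omega
  obtain ⟨hd, hsum⟩ := finrank_parts (n := n) (F := F) hodd
  have hbig : 9 ≤ Fintype.card F ^ n :=
    le_trans (le_of_eq_of_le (by norm_num) (Nat.pow_le_pow_left hq 2)) (Nat.pow_le_pow_right (by omega) hn)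
  have hfix : ∀ f : part n F 1, (∀ g, weilPart hodd 1 g f = f) → f = 0 := by
    intro f hf
    have hall : ∀ g : Sp n F, (weilOp hodd g : Module.End ℂ ((Fin n → F) → ℂ)) f.1 = f.1 := fun g => by
      obtain ⟨h, rfl⟩ := conjJ_surjective g
      exact congrArg Subtype.val (hf h)
    obtain ⟨Λ, hΛ⟩ := weilFull_siegel (n := n) hodd h2
    have hΛ0 : Λ = 0 := by
      by_contra hne
      obtain ⟨k, rfl⟩ : ∃ k, n = k + 1 := ⟨n - 1, by omega⟩
      obtain ⟨x, hx⟩ := (spectrum_weilPart hodd hn 1 (Or.inl rfl)).1 Λ (by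
        intro h
        have hd' : (Pi.single (0 : Fin (k + 1) → F) (1 : ℂ) : (Fin (k + 1) → F) → ℂ) ∈ part (k + 1) F 1 := by
          rw [mem_part]
          funext y
          show (Pi.single (0 : Fin (k + 1) → F) (1 : ℂ) : (Fin (k + 1) → F) → ℂ) (-y) = _
          simp [Pi.single_apply]
        have e := congrArg (fun g : part (k + 1) F 1 => g.1 0) (LinearMap.congr_fun h ⟨_, hd'⟩)
        rw [coe_piB_weilPart, piB_weilFull_apply hodd hΛ] at e
        simp at e)
      have hR := rankLE1_weilPart hodd hn 1 (Or.inl rfl)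
      haveI : Nontrivial (Fin (k + 1)) := Fin.nontrivial_iff_two_le.mpr hn
      have hx0 : x ≠ 0 := fun h => hne (by rw [hx, h]; simp)
      obtain ⟨i, hi⟩ := Function.ne_iff.mp hx0
      obtain ⟨j, hji⟩ := exists_ne i
      have hp : piB (weilPart hodd 1) (Λ + vecMulVec (Pi.single j (1 : F)) (Pi.single j 1)) ≠ 0 := by
        intro h
        obtain ⟨g, hg⟩ := exists_mem_part hodd hn 1 (one_mul 1) (x := Pi.single j (1 : F)) (by simp)
        apply hg
        have e := congrArg (fun g' : part (k + 1) F 1 => g'.1 (Pi.single j (1 : F))) (LinearMap.congr_fun h g)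
        rw [coe_piB_weilPart, piB_weilFull_apply hodd hΛ, if_pos rfl] at e
        exact e
      have := hR _ hp i i j j
      rw [hx] at this
      simp only [Matrix.add_apply, vecMulVec_apply, Pi.single_eq_same, Pi.single_eq_of_ne hji.symm] at this
      have e : x i ^ 2 = 0 := by linear_combination this
      exact hi (by simpa using e)
    subst hΛ0
    have hsupp : ∀ x : Fin n → F, x ≠ 0 → f.1 x = 0 := by
      intro x hx
      by_contra h
      have hpi : piB (weilFull hodd) 0 f.1 = f.1 := by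
        have hs' : ∀ M, weilFull hodd (siegel M) f.1 = f.1 := fun M => congrArg Subtype.val (hf _)
        simp only [piB, LinearMap.smul_apply, LinearMap.sum_apply, hs', ← Finset.sum_smul]
        rw [show ∑ M : Mat n F, phi (0 : Mat n F) (-M) = (Fintype.card (Mat n F) : ℂ) by
          simp [phi_apply], smul_smul, inv_mul_cancel₀ card_ne_zero, one_smul]
      have e := congrFun hpi x
      rw [piB_weilFull_apply hodd hΛ, if_neg] at e
      · exact h e.symm
      · intro h0
        obtain ⟨i, hi⟩ := Function.ne_iff.mp hx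
        have := congrFun (congrFun h0 i) i
        simp [vecMulVec_apply] at this
        exact hi this
    refine Subtype.ext (funext fun x => ?_)
    rcases eq_or_ne x 0 with rfl | hx
    swap
    · exact hsupp x hx
    let i₀ : Fin n := ⟨0, by omega⟩
    have hb0 : (Sum.elim 0 (Pi.single i₀ 1) : Fin n ⊕ Fin n → F) ≠ 0 := fun h => by
      simpa using congrFun h (Sum.inr i₀)
    have hb1 : (Sum.elim (Pi.single i₀ 1) 0 : Fin n ⊕ Fin n → F) ≠ 0 := fun h => by
      simpa using congrFun h (Sum.inl i₀)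
    obtain ⟨g, hg⟩ := CfsgLib.Sp.transitive_ne_zero_matrix _ _ hb0 hb1
    have hv : weylOp (Sum.elim 0 (Pi.single i₀ 1) : Fin n ⊕ Fin n → F) f.1 = f.1 := by
      funext y
      show chi F (Pi.single i₀ 1 ⬝ᵥ y + (0 : Fin n → F) ⬝ᵥ Pi.single i₀ 1 / 2) * f.1 (y + 0) = f.1 y
      rcases eq_or_ne y 0 with rfl | hy
      · simp
      · rw [add_zero, hsupp y hy, mul_zero]
    have key := LinearMap.congr_fun (weilOp_implements hodd g (Sum.elim 0 (Pi.single i₀ 1))) f.1
    rw [Module.End.mul_apply, Module.End.mul_apply, hv, hg, hall] at key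
    have e := congrFun key 0
    have : (fun i => (Sum.elim (Pi.single i₀ 1) (0 : Fin n → F) : Fin n ⊕ Fin n → F) (Sum.inl i)) =
        Pi.single i₀ 1 := rfl
    change f.1 0 = chi F _ * f.1 (0 + fun i => (Sum.elim (Pi.single i₀ 1) (0 : Fin n → F) : Fin n ⊕ Fin n → F) (Sum.inl i)) at e
    rw [this, zero_add, hsupp (Pi.single i₀ 1) (by simp), mul_zero] at e
    exact e
  rcases CfsgLib.Characters.rep_trichotomy (weilPart (n := n) hodd 1) with h | h | ⟨U, U', hc, h1, h3⟩
  · haveI := h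
    rw [Module.finrank_zero_of_subsingleton] at hd
    omega
  · exact h
  exfalso
  have hsum' := Submodule.finrank_add_eq_of_isCompl hc
  have key : ∀ U : Subrepresentation (weilPart (n := n) hodd 1), Module.finrank ℂ U.toSubmodule ≠ 0 →
      (Fintype.card F ^ n - 1) / 2 ≤ Module.finrank ℂ U.toSubmodule := by
    intro U hU
    refine degree_ge hn hodd (V := U.toSubmodule) U.toRepresentation ?_
    by_contra hcon
    push Not at hcon
    apply hU
    have hbot : U.toSubmodule = ⊥ := (Submodule.eq_bot_iff _).mpr fun v hv => hfix v fun g =>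
      congrArg Subtype.val (LinearMap.congr_fun (hcon g) ⟨v, hv⟩)
    rw [hbot, finrank_bot]
  have k1 := key U (by omega)
  have k2 := key U' (by omega)
  omega

end Weil

end CfsgLib.SpWeilRankOne
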